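import Cfsg.Agent.OrderSieve.Sound
import Cfsg.Agent.Blocks.PrimeGram.FiveCases

/-!
Degrees in the principal block when an involution or an element of order three centralises a Sylow
subgroup of prime order `p`.
-/

set_option autoImplicit false

namespace CfsgLib.OrderSieve

open Cfsg CfsgLib.Chars CfsgLib.PrimeGram
open scoped Classical

universe u

variable {G : Type u} [Group G] [Finite G] [IsSimpleGroup G] {p : ℕ} [hp : Fact p.Prime]

/-- An involution or an element of order three commuting with `x`: a character taking the value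
`η = ±1` on `x^i u^n` has degree at least `2p + 1` for `η = 1` and `3p - 1` for `η = -1`. -/
theorem degree_bound (hG : ¬ IsMulCommutative G) (hp3 : 3 < p) {x : G} (hx : orderOf x = p)
    {q : ℕ} (hq : q = 2 ∨ q = 3) {u : G} (hu : orderOf u = q) (hu1 : u ≠ 1) (hux : Commute x u)
    {χ : IrrCharacter G} (hne : χ ≠ oneChar G) {η : ℤ} (hη : η = 1 ∨ η = -1)
    (hval : ∀ i : ZMod p, i ≠ 0 → ∀ y : G, Commute y x → ¬ p ∣ orderOf y →
      (χ : G → ℂ) (pw p x i * y) = (η : ℂ)) :
    (η = 1 → 2 * p + 1 ≤ charDegree (χ : G → ℂ)) ∧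
      (η = -1 → 3 * p ≤ charDegree (χ : G → ℂ) + 1) := by
  have hlin := linear_trivial_of_simple hG
  have hup : ¬ p ∣ orderOf u := fun h => by
    have := Nat.le_of_dvd (orderOf_pos u) h
    rw [hu] at this
    rcases hq with rfl | rfl <;> omega
  rcases hq with rfl | rfl
  · have hu2 : u * u = 1 := by rw [← pow_two, ← hu, pow_orderOf_eq_one]
    obtain ⟨a, b, h1, h2, hb⟩ := exists_even_neg hlin hu2 (isCharacter_coe χ)
    obtain ⟨hb', ha'⟩ := mult_commuting hx hu2 hux (isCharacter_coe χ) η (fun i hi =>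
      ⟨by simpa using hval i hi 1 (Commute.one_left x) (by simp [hp.out.ne_one]),
        hval i hi u hux.symm hup⟩) h1 h2
    have hd : charDegree (χ : G → ℂ) = a + b :=
      charDegree_eq_of_map_one (by rw [h1]; push_cast; ring)
    have hb0 : b ≠ 0 := fun h => hu1 (eq_one_of_value_eq_degree hne (by rw [h2, h1, h]; simp))
    have ha0 : a ≠ 0 := fun h => value_ne_neg_degree hG hne hu1 (by rw [h2, h1, h]; simp)
    obtain ⟨M, hM⟩ : p ∣ b := Int.natCast_dvd_natCast.mp hb'
    have hM0 : M ≠ 0 := fun h => hb0 (by rw [hM, h, mul_zero])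
    have hM1 : M ≠ 1 := by
      intro h
      rw [hM, h, mul_one] at hb
      exact absurd hb (Nat.not_even_iff_odd.mpr (hp.out.odd_of_ne_two (by omega)))
    have h2p : 2 * p ≤ b := by
      rw [hM, mul_comm p M]; exact Nat.mul_le_mul_right p (by omega)
    refine ⟨fun _ => by omega, fun e => ?_⟩
    obtain ⟨k, hk⟩ := ha'
    rw [e] at hk
    have hk1 : 1 ≤ k := by
      by_contra hk'
      have : (p : ℤ) * k ≤ 0 := mul_nonpos_of_nonneg_of_nonpos (by positivity) (by omega)
      omega
    have : (p : ℤ) ≤ (p : ℤ) * k := le_mul_of_one_le_right (by positivity) hk1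
    omega
  · have hu3 : u ^ 3 = 1 := by rw [← hu, pow_orderOf_eq_one]
    obtain ⟨a, b, c, h1, h2, h3, hbc⟩ := exists_mult_three hlin hu3 (isCharacter_coe χ)
    obtain ⟨hb', hc', ha'⟩ := mult_commuting_three hx hu3 hux (isCharacter_coe χ) η
      (fun i hi n => hval i hi (u ^ n) (hux.symm.pow_left n)
        (fun hd' => hup (hd'.trans (orderOf_pow_dvd n)))) h1 h2 h3 (by omega)
    have hd : charDegree (χ : G → ℂ) = a + b + c :=
      charDegree_eq_of_map_one (by rw [h1]; push_cast; ring)
    have hbc0 : b + c ≠ 0 := fun h => hu1 (eq_one_of_value_eq_degree hne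
      (by rw [h2, h1, show b = 0 by omega, show c = 0 by omega]; simp))
    have hp3' : ¬ 3 ∣ p := fun h => by
      have := (Nat.prime_dvd_prime_iff_eq Nat.prime_three hp.out).mp h
      omega
    obtain ⟨M, hM⟩ : p ∣ b := Int.natCast_dvd_natCast.mp hb'
    obtain ⟨K, hK⟩ : p ∣ c := Int.natCast_dvd_natCast.mp hc'
    have hMK : 2 ≤ M + K := by
      by_contra h
      rcases (show (M = 0 ∧ K = 0) ∨ (M = 1 ∧ K = 0) ∨ (M = 0 ∧ K = 1) by omega) with
        ⟨e1, e2⟩ | ⟨e1, e2⟩ | ⟨e1, e2⟩ <;> rw [e1] at hM <;> rw [e2] at hK <;> simp at hM hK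
      · omega
      · subst hM hK; exact hp3' (Nat.dvd_of_mod_eq_zero (by omega))
      · subst hM hK; exact hp3' (Nat.dvd_of_mod_eq_zero (by omega))
    have h2p : 2 * p ≤ b + c := by
      rw [hM, hK, ← mul_add, mul_comm p]; exact Nat.mul_le_mul_right p hMK
    obtain ⟨k, hk⟩ := ha'
    refine ⟨fun e => ?_, fun e => ?_⟩
    · rw [e] at hk
      have ha0 : a ≠ 0 := by
        intro h
        rw [h] at hk
        have := Int.le_of_dvd (by norm_num) (show (p : ℤ) ∣ 1 from ⟨-k, by simp at hk; linarith⟩)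
        omega
      omega
    · rw [e] at hk
      have hk1 : 1 ≤ k := by
        by_contra hk'
        have : (p : ℤ) * k ≤ 0 := mul_nonpos_of_nonneg_of_nonpos (by positivity) (by omega)
        omega
      have : (p : ℤ) ≤ (p : ℤ) * k := le_mul_of_one_le_right (by positivity) hk1
      omega

/-- Signed degrees allowed for the members with constant values. -/
def boundOpts (N p L : ℕ) : List (ℤ × ℤ) :=
  (List.range L).flatMap fun (d : ℕ) =>
    ([1, -1] : List ℤ).filterMap fun v =>
      if N % d = 0 ∧ ((d : ℤ) - v) % p = 0 ∧ ((v = 1 ∧ 2 * p + 1 ≤ d) ∨ (v = -1 ∧ 3 * p ≤ d + 1)) then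
        some (v * d, (d : ℤ) * d) else none

/-- Signed degrees of any member other than the principal character. -/
def anyOpts (N p L : ℕ) : List (ℤ × ℤ) :=
  (List.range L).flatMap fun (d : ℕ) =>
    ([1, -1] : List ℤ).filterMap fun v =>
      if 2 ≤ d ∧ N % d = 0 ∧ ((d : ℤ) - v) % p = 0 then some (v * d, (d : ℤ) * d) else none

/-- The check excluding small centralising elements for `e = p - 1`. -/
def fullCheck (N p L : ℕ) : Bool :=
  let good : ℤ × ℤ → Bool := fun w => decide (w.1 = 0 ∧ w.2 ≤ N)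
  ((anyOpts N p L).all fun t => noMultiset good id (boundOpts N p L) (p - 2) ((1, 1) + t)) &&
    noMultiset good id (boundOpts N p L) (p - 1) (1, 1)

theorem charDegree_lt {N L : ℕ} (hN : Nat.card G = N) (hL : N < L * L) (χ : IrrCharacter G) :
    charDegree (χ : G → ℂ) < L := by
  have h := charDegree_sq_le χ
  rw [hN] at h
  nlinarith

theorem false_of_fullCheck (hG : ¬ IsMulCommutative G) (hp3 : 3 < p) (P : Sylow p G)
    (hP : Nat.card (P : Subgroup G) = p)
    (he : (Subgroup.centralizer ((P : Subgroup G) : Set G)).relIndex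
      (Subgroup.normalizer ((P : Subgroup G) : Set G)) = p - 1)
    {q : ℕ} [hqf : Fact q.Prime] (hq : q = 2 ∨ q = 3)
    (hC : q ∣ Nat.card (Subgroup.centralizer ((P : Subgroup G) : Set G)))
    {N L : ℕ} (hN : Nat.card G = N) (hL : N < L * L) (hchk : fullCheck N p L = true) : False := by
  obtain ⟨x, S, v, θ, hx, hz, hS, hθ, hone, hv1, hv, hcong, hrel, hval⟩ :=
    exists_signed_block (p := p) (by omega) P hP he
  obtain ⟨u, hu, hu1, hux, -⟩ := exists_commuting_element (p := p) hz q
    (by rcases hq with rfl | rfl <;> omega) hC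
  let wt : IrrCharacter G → ℤ × ℤ := fun χ =>
    (v χ * (charDegree (χ : G → ℂ) : ℤ), (charDegree (χ : G → ℂ) : ℤ) * (charDegree (χ : G → ℂ) : ℤ))
  have hone' : charDegree (oneChar G : G → ℂ) = 1 := charDegree_linChar 1
  have hw1 : wt (oneChar G) = (1, 1) := by simp [wt, hv1, hone']
  have hgood : (fun w : ℤ × ℤ => decide (w.1 = 0 ∧ w.2 ≤ N)) (∑ χ ∈ S, wt χ) = true := by
    simp only [decide_eq_true_eq]
    refine ⟨?_, ?_⟩
    · rw [Prod.fst_sum]; exact sum_deg_eq_zero hrel
    · rw [Prod.snd_sum]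
      haveI := Fintype.ofFinite G
      have hsub : ∑ χ ∈ S, charDegree (χ : G → ℂ) ^ 2 ≤ Nat.card G :=
        (sum_charDegree_sq (G := G)) ▸ Finset.sum_le_sum_of_subset (Finset.subset_univ _)
      rw [hN] at hsub
      refine le_trans (le_of_eq ?_) (Int.ofNat_le.mpr hsub)
      push_cast
      exact Finset.sum_congr rfl fun χ _ => (pow_two _).symm
  have hmemB : ∀ χ ∈ S.erase θ, χ ≠ oneChar G → wt χ ∈ boundOpts N p L := by
    intro χ hχ hne
    have hχS := Finset.mem_of_mem_erase hχ
    obtain ⟨hb1, hb2⟩ := degree_bound hG hp3 hx hq hu hu1 hux hne (hv χ hχS)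
      (fun i hi y hy hy' => hval χ hχ i hi y hy hy')
    refine List.mem_flatMap.mpr ⟨_, List.mem_range.mpr (charDegree_lt hN hL χ),
      List.mem_filterMap.mpr ⟨v χ, by simpa using hv χ hχS, ?_⟩⟩
    rw [if_pos ⟨Nat.mod_eq_zero_of_dvd (hN ▸ charDegree_dvd_card χ),
      Int.emod_eq_emod_iff_emod_sub_eq_zero.mp (hcong χ hχS), by
        rcases hv χ hχS with e | e
        · exact Or.inl ⟨e, hb1 e⟩
        · exact Or.inr ⟨e, hb2 e⟩⟩]
  simp only [fullCheck, Bool.and_eq_true, List.all_eq_true] at hchk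
  obtain ⟨hall, hone2⟩ := hchk
  by_cases h : θ = oneChar G
  · subst h
    have hb := noMultiset_sound _ id _ (p - 1) ((1, 1) : ℤ × ℤ)
      ((S.erase (oneChar G)).toList.map wt) hone2
      (by rw [List.length_map, Finset.length_toList, Finset.card_erase_of_mem hθ, hS])
      (fun a ha => by
        obtain ⟨χ, hχ, rfl⟩ := List.mem_map.mp ha
        rw [Finset.mem_toList] at hχ
        exact hmemB χ hχ (Finset.ne_of_mem_erase hχ))
    rw [List.map_id, Finset.sum_map_toList, ← hw1, Finset.add_sum_erase S wt hθ] at hb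
    exact Bool.false_ne_true (hb.symm.trans hgood)
  · have hmem : oneChar G ∈ S.erase θ := Finset.mem_erase.mpr ⟨Ne.symm h, hone⟩
    have hθopt : wt θ ∈ anyOpts N p L := by
      refine List.mem_flatMap.mpr ⟨_, List.mem_range.mpr (charDegree_lt hN hL θ),
        List.mem_filterMap.mpr ⟨v θ, by simpa using hv θ hθ, ?_⟩⟩
      have h2 : 2 ≤ charDegree (θ : G → ℂ) := by
        have := charDegree_pos θ
        by_contra h1
        exact h (linear_eq_one hG θ (by omega))
      rw [if_pos ⟨h2, Nat.mod_eq_zero_of_dvd (hN ▸ charDegree_dvd_card θ),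
        Int.emod_eq_emod_iff_emod_sub_eq_zero.mp (hcong θ hθ)⟩]
    have hb := noMultiset_sound _ id _ (p - 2) ((1, 1) + wt θ)
      (((S.erase θ).erase (oneChar G)).toList.map wt) (hall _ hθopt)
      (by rw [List.length_map, Finset.length_toList, Finset.card_erase_of_mem hmem,
        Finset.card_erase_of_mem hθ, hS]; omega)
      (fun a ha => by
        obtain ⟨χ, hχ, rfl⟩ := List.mem_map.mp ha
        rw [Finset.mem_toList] at hχ
        exact hmemB χ (Finset.mem_of_mem_erase hχ) (Finset.ne_of_mem_erase hχ))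
    rw [List.map_id, Finset.sum_map_toList, ← hw1, add_comm (wt (oneChar G)), add_assoc,
      Finset.add_sum_erase _ wt hmem, Finset.add_sum_erase S wt hθ] at hb
    exact Bool.false_ne_true (hb.symm.trans hgood)

/-- No small element centralises `P` for `e = 2`, given the check on consecutive degrees. -/
theorem false_of_index_two (hG : ¬ IsMulCommutative G) (hp3 : 3 < p) (P : Sylow p G)
    (hP : Nat.card (P : Subgroup G) = p)
    (he : (Subgroup.centralizer ((P : Subgroup G) : Set G)).relIndex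
      (Subgroup.normalizer ((P : Subgroup G) : Set G)) = 2)
    {q : ℕ} [hqf : Fact q.Prime] (hq : q = 2 ∨ q = 3)
    (hC : q ∣ Nat.card (Subgroup.centralizer ((P : Subgroup G) : Set G)))
    {N L : ℕ} (hN : Nat.card G = N) (hL : N < L * L)
    (hchk : ((boundOpts N p L).all fun t => ([1, -1] : List ℤ).all fun s =>
      decide (¬ (0 < s * (1 + t.1) ∧ (N : ℤ) % (s * (1 + t.1)) = 0 ∧
        (s * (1 + t.1) - 2 * s) % p = 0))) = true) : False := by
  haveI := Fintype.ofFinite G
  obtain ⟨-, x, X, Y, εX, ε, hz, D⟩ := exists_blockData hG P hP _ (by omega) he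
  obtain ⟨u, hu, hu1, hux, -⟩ := exists_commuting_element (p := p) hz q
    (by rcases hq with rfl | rfl <;> omega) hC
  obtain ⟨α, hα⟩ := Finset.card_eq_one.mp (show (X.erase (oneChar G)).card = 1 by
    rw [Finset.card_erase_of_mem D.oneX, D.cardX])
  have hm : α ∈ X.erase (oneChar G) := by rw [hα]; exact Finset.mem_singleton_self α
  have hαX := Finset.mem_of_mem_erase hm
  have hne := Finset.ne_of_mem_erase hm
  obtain ⟨hb1, hb2⟩ := degree_bound hG hp3 D.order hq hu hu1 hux hne (D.signX α hαX)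
    (fun i hi y hy hy' => D.valueX α hαX i hi y hy hy')
  obtain ⟨θ, hθ⟩ : Y.Nonempty := Finset.card_pos.mp (by
    rw [D.cardY]; exact Nat.div_pos (by omega) (by norm_num))
  have hdeq := D.degree_eq hθ
  rw [← Finset.add_sum_erase _ _ D.oneX, hα, Finset.sum_singleton, D.signOne,
    show charDegree (oneChar G : G → ℂ) = 1 from charDegree_linChar 1] at hdeq
  have hopt : (εX α * (charDegree (α : G → ℂ) : ℤ),
      (charDegree (α : G → ℂ) : ℤ) * (charDegree (α : G → ℂ) : ℤ)) ∈ boundOpts N p L := by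
    refine List.mem_flatMap.mpr ⟨_, List.mem_range.mpr (charDegree_lt hN hL α),
      List.mem_filterMap.mpr ⟨εX α, by simpa using D.signX α hαX, ?_⟩⟩
    rw [if_pos ⟨Nat.mod_eq_zero_of_dvd (hN ▸ charDegree_dvd_card α),
      Int.emod_eq_emod_iff_emod_sub_eq_zero.mp (D.congrX α hαX), by
        rcases D.signX α hαX with e | e
        · exact Or.inl ⟨e, hb1 e⟩
        · exact Or.inr ⟨e, hb2 e⟩⟩]
  simp only [List.all_eq_true, decide_eq_true_eq] at hchk
  have hB : ε * (1 + εX α * (charDegree (α : G → ℂ) : ℤ)) = (charDegree (θ : G → ℂ) : ℤ) := by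
    push_cast at hdeq
    rw [show (1 : ℤ) + εX α * (charDegree (α : G → ℂ) : ℤ) = ε * (charDegree (θ : G → ℂ) : ℤ) by
      linarith, ← mul_assoc]
    rcases D.sign with e | e <;> rw [e] <;> norm_num
  refine hchk _ hopt ε (by simpa using D.sign) ⟨?_, ?_, ?_⟩
  · show 0 < ε * (1 + εX α * (charDegree (α : G → ℂ) : ℤ))
    rw [hB]; exact_mod_cast charDegree_pos θ
  · show (N : ℤ) % (ε * (1 + εX α * (charDegree (α : G → ℂ) : ℤ))) = 0
    rw [hB]; exact Int.emod_eq_zero_of_dvd (Int.natCast_dvd_natCast.mpr (hN ▸ charDegree_dvd_card θ))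
  · show (ε * (1 + εX α * (charDegree (α : G → ℂ) : ℤ)) - 2 * ε) % p = 0
    rw [hB, mul_comm 2 ε]
    exact Int.emod_eq_emod_iff_emod_sub_eq_zero.mp (D.congrY θ hθ)

end CfsgLib.OrderSieve
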