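import Cfsg.Agent.OrderSieve.Sound

/-!
The orders above 3640 and at most 6232 that survive the sieve, by kernel computation.
-/

set_option autoImplicit false

namespace CfsgLib.OrderSieve

/-- Every order in the range is excluded or left over. -/
def covered (lo n : ℕ) : Bool :=
  (List.range n).all fun i => killed (lo + i) || leftover.contains (lo + i)

theorem covered_0 : covered 3641 324 = true := by decide +kernel

theorem covered_1 : covered 3965 324 = true := by decide +kernel

theorem covered_2 : covered 4289 324 = true := by decide +kernel

theorem covered_3 : covered 4613 324 = true := by decide +kernel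

theorem covered_4 : covered 4937 324 = true := by decide +kernel

theorem covered_5 : covered 5261 324 = true := by decide +kernel

theorem covered_6 : covered 5585 324 = true := by decide +kernel

theorem covered_7 : covered 5909 324 = true := by decide +kernel

universe u

theorem mem_leftover {G : Type u} [Group G] [Finite G] [IsSimpleGroup G] (hG : ¬ IsMulCommutative G)
    (h1 : 3640 < Nat.card G) (h2 : Nat.card G ≤ 6232) : Nat.card G ∈ leftover := by
  have key : ∀ lo n, covered lo n = true → lo ≤ Nat.card G → Nat.card G < lo + n →
      Nat.card G ∈ leftover := by
    intro lo n h hlo hhi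
    have h' := List.all_eq_true.mp h (Nat.card G - lo) (List.mem_range.mpr (by omega))
    rw [Nat.add_sub_cancel' hlo, not_killed hG rfl (by omega), Bool.false_or,
      List.contains_iff_mem] at h'
    exact h'
  by_cases c0 : Nat.card G < 3965
  · exact key _ _ covered_0 (by omega) (by omega)
  by_cases c1 : Nat.card G < 4289
  · exact key _ _ covered_1 (by omega) (by omega)
  by_cases c2 : Nat.card G < 4613
  · exact key _ _ covered_2 (by omega) (by omega)
  by_cases c3 : Nat.card G < 4937
  · exact key _ _ covered_3 (by omega) (by omega)
  by_cases c4 : Nat.card G < 5261
  · exact key _ _ covered_4 (by omega) (by omega)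
  by_cases c5 : Nat.card G < 5585
  · exact key _ _ covered_5 (by omega) (by omega)
  by_cases c6 : Nat.card G < 5909
  · exact key _ _ covered_6 (by omega) (by omega)
  exact key _ _ covered_7 (by omega) (by omega)

end CfsgLib.OrderSieve
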