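import Mathlib

/-!
A set of conjugate abelian subgroups whose commuting graph is complete bipartite gives a normal
subgroup of index two.
-/

set_option autoImplicit false

namespace CfsgLib.OrderSieve

open scoped Classical

variable {G : Type*} [Group G] [IsSimpleGroup G]

omit [IsSimpleGroup G] in
theorem le_centralizer_map_conj (g : G) {X Y : Subgroup G} (h : Y ≤ Subgroup.centralizer (X : Set G)) :
    Y.map (MulAut.conj g).toMonoidHom ≤
      Subgroup.centralizer ((X.map (MulAut.conj g).toMonoidHom : Subgroup G) : Set G) := by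
  rintro _ ⟨y, hy, rfl⟩ _ ⟨x, hx, rfl⟩
  rw [← map_mul, ← map_mul, Subgroup.mem_centralizer_iff.mp (h hy) x hx]

theorem false_of_bipartite (hG : ¬ IsMulCommutative G) (Ω : Finset (Subgroup G)) {R : Subgroup G}
    (hR : R ∈ Ω) (hΩ : ∀ (g : G), ∀ X ∈ Ω, X.map (MulAut.conj g).toMonoidHom ∈ Ω)
    (htrans : ∀ X ∈ Ω, ∃ g : G, R.map (MulAut.conj g).toMonoidHom = X)
    (hself : ∀ X ∈ Ω, X ≤ Subgroup.centralizer (X : Set G)) {s : ℕ} (hs : 1 ≤ s) (hcard : Ω.card = 2 * s)
    (hcount : ∀ X ∈ Ω, s + 1 ≤ (Ω.filter fun Y : Subgroup G => Y ≤ Subgroup.centralizer (X : Set G)).card)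
    (hinter : ∀ X ∈ Ω, ∀ Y ∈ Ω, X ≠ Y → Y ≤ Subgroup.centralizer (X : Set G) →
      ((Ω.filter fun Z : Subgroup G => Z ≤ Subgroup.centralizer (X : Set G)) ∩
        (Ω.filter fun Z : Subgroup G => Z ≤ Subgroup.centralizer (Y : Set G))).card ≤ 2) : False := by
  set σ : G → Subgroup G → Subgroup G := fun g X => X.map (MulAut.conj g).toMonoidHom with hσ
  set fix : Subgroup G → Finset (Subgroup G) := fun X =>
    Ω.filter fun Y : Subgroup G => Y ≤ Subgroup.centralizer (X : Set G) with hfix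
  have hmem : ∀ X Y, Y ∈ fix X ↔ Y ∈ Ω ∧ Y ≤ Subgroup.centralizer (X : Set G) := fun X Y =>
    Finset.mem_filter
  have hmul : ∀ g k X, σ (g * k) X = σ g (σ k X) := fun g k X => by
    simp only [hσ, Subgroup.map_map]
    congr 1
    ext a; simp [MulAut.conj_apply, mul_assoc]
  have hone : ∀ X, σ 1 X = X := fun X => by ext a; simp [hσ, Subgroup.mem_map]
  have hsymm : ∀ X ∈ Ω, ∀ Y, Y ∈ fix X → X ∈ fix Y := fun X hX Y hY =>
    (hmem _ _).mpr ⟨hX, Subgroup.le_centralizer_iff.mp ((hmem _ _).mp hY).2⟩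
  have hexact : ∀ X ∈ Ω, (fix X).card = s + 1 ∧ ∀ Y ∈ fix X, Y ≠ X → fix X ∪ fix Y = Ω := by
    intro X hX
    have hpair : ∀ Y ∈ fix X, Y ≠ X → (fix X).card = s + 1 ∧ fix X ∪ fix Y = Ω := by
      intro Y hY hne
      obtain ⟨hYΩ, hYc⟩ := (hmem _ _).mp hY
      have h1 := hcount X hX
      have h2 := hcount Y hYΩ
      have h3 := hinter X hX Y hYΩ hne.symm hYc
      have h4 := Finset.card_union_add_card_inter (fix X) (fix Y)
      have hsub : fix X ∪ fix Y ⊆ Ω := Finset.union_subset (Finset.filter_subset _ _) (Finset.filter_subset _ _)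
      have h5 := Finset.card_le_card hsub
      change _ ≤ (fix X).card at h1
      change _ ≤ (fix Y).card at h2
      change (fix X ∩ fix Y).card ≤ 2 at h3
      exact ⟨by omega, Finset.eq_of_subset_of_card_le hsub (by omega)⟩
    obtain ⟨Y, hY, hne⟩ := Finset.exists_mem_ne (show 1 < (fix X).card by
      have h1 := hcount X hX; change _ ≤ (fix X).card at h1; omega) X
    exact ⟨(hpair Y hY hne).1, fun Y hY hne => (hpair Y hY hne).2⟩
  -- the two sides
  set B := (fix R).erase R with hB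
  set A := Ω \ B with hA
  have hRfix : R ∈ fix R := (hmem _ _).mpr ⟨hR, hself R hR⟩
  have hBc : B.card = s := by rw [hB, Finset.card_erase_of_mem hRfix, (hexact R hR).1]; omega
  have hBsub : B ⊆ Ω := (Finset.erase_subset _ _).trans (Finset.filter_subset _ _)
  have hAc : A.card = s := by rw [hA, Finset.card_sdiff_of_subset hBsub, hcard, hBc]; omega
  have hfixB : ∀ X ∈ B, fix X = insert X A := by
    intro X hX
    obtain ⟨hne, hXf⟩ := Finset.mem_erase.mp hX
    have hXΩ := hBsub hX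
    have hu := (hexact R hR).2 X hXf hne
    refine (Finset.eq_of_subset_of_card_le ?_ ?_).symm
    · intro Z hZ
      rcases Finset.mem_insert.mp hZ with rfl | hZA
      · exact (hmem _ _).mpr ⟨hXΩ, hself _ hXΩ⟩
      · obtain ⟨hZΩ, hZB⟩ := Finset.mem_sdiff.mp hZA
        by_cases hZR : Z = R
        · exact hZR ▸ hsymm R hR X hXf
        · rcases Finset.mem_union.mp (hu.ge hZΩ) with h | h
          · exact absurd (Finset.mem_erase.mpr ⟨hZR, h⟩) hZB
          · exact h
    · rw [(hexact X hXΩ).1, Finset.card_insert_of_notMem (fun h => (Finset.mem_sdiff.mp h).2 hX), hAc]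
  have hfixA : ∀ Z ∈ A, fix Z = insert Z B := by
    intro Z hZ
    obtain ⟨hZΩ, hZB⟩ := Finset.mem_sdiff.mp hZ
    refine (Finset.eq_of_subset_of_card_le ?_ ?_).symm
    · intro X hX
      rcases Finset.mem_insert.mp hX with rfl | hXB
      · exact (hmem _ _).mpr ⟨hZΩ, hself _ hZΩ⟩
      · exact hsymm X (hBsub hXB) Z (by rw [hfixB X hXB]; exact Finset.mem_insert_of_mem hZ)
    · rw [(hexact Z hZΩ).1, Finset.card_insert_of_notMem hZB, hBc]
  have hside : ∀ X ∈ Ω, ∀ Y ∈ Ω, (X ∈ A ↔ Y ∈ A) ↔ (X = Y ∨ Y ∉ fix X) := by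
    intro X hX Y hY
    have hA' : ∀ Z ∈ Ω, Z ∈ A ↔ Z ∉ B := fun Z hZ => by simp [hA, hZ]
    by_cases hXA : X ∈ A
    · rw [hfixA X hXA, Finset.mem_insert, not_or, hA' Y hY]
      simp only [hXA, true_iff]
      refine ⟨fun h => ?_, ?_⟩
      · by_cases e : X = Y
        · exact Or.inl e
        · exact Or.inr ⟨Ne.symm e, h⟩
      · rintro (rfl | ⟨-, h⟩)
        · exact (hA' _ hX).mp hXA
        · exact h
    · have hXB : X ∈ B := by by_contra h; exact hXA ((hA' X hX).mpr h)
      rw [hfixB X hXB, Finset.mem_insert, not_or]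
      simp only [hXA, false_iff]
      refine ⟨fun h => ?_, ?_⟩
      · by_cases e : X = Y
        · exact Or.inl e
        · exact Or.inr ⟨Ne.symm e, h⟩
      · rintro (rfl | ⟨-, h⟩)
        · exact hXA
        · exact h
  have hequiv : ∀ (g : G), ∀ X ∈ Ω, ∀ Y ∈ Ω, (σ g X ∈ A ↔ σ g Y ∈ A) ↔ (X ∈ A ↔ Y ∈ A) := by
    intro g X hX Y hY
    rw [hside _ (hΩ g X hX) _ (hΩ g Y hY), hside X hX Y hY]
    have hback : ∀ Z, σ g⁻¹ (σ g Z) = Z := fun Z => by rw [← hmul, inv_mul_cancel, hone]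
    constructor <;> rintro (h | h)
    · left; exact ((hback X).symm.trans (congrArg (σ g⁻¹) h)).trans (hback Y)
    · right
      intro hYX
      exact h ((hmem _ _).mpr ⟨hΩ g Y hY, le_centralizer_map_conj g ((hmem _ _).mp hYX).2⟩)
    · left; rw [h]
    · right
      intro hYX
      apply h
      refine (hmem _ _).mpr ⟨hY, ?_⟩
      have h' : σ g⁻¹ (σ g Y) ≤ Subgroup.centralizer (σ g⁻¹ (σ g X) : Set G) :=
        le_centralizer_map_conj g⁻¹ ((hmem _ _).mp hYX).2
      rwa [hback, hback] at h'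
  have hRA : R ∈ A := Finset.mem_sdiff.mpr ⟨hR, Finset.notMem_erase _ _⟩
  have hpar : ∀ g k, (σ (g * k) R ∈ A ↔ (σ g R ∈ A ↔ σ k R ∈ A)) := by
    intro g k
    have h := hequiv g (σ k R) (hΩ k R hR) R hR
    rw [← hmul] at h
    simp only [hRA, iff_true] at h
    tauto
  let T : Subgroup G :=
    { carrier := {g | σ g R ∈ A}
      mul_mem' := fun {a b} (ha : σ a R ∈ A) (hb : σ b R ∈ A) => (hpar a b).mpr (by simp [ha, hb])
      one_mem' := by show σ 1 R ∈ A; rw [hone]; exact hRA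
      inv_mem' := fun {a} (ha : σ a R ∈ A) => by
        show σ a⁻¹ R ∈ A
        have h := hpar a a⁻¹
        rw [mul_inv_cancel, hone] at h
        simpa [ha, hRA] using h }
  haveI hT : T.Normal := ⟨fun a (ha : σ a R ∈ A) g => by
    show σ (g * a * g⁻¹) R ∈ A
    have h2 := hpar g g⁻¹
    rw [mul_inv_cancel, hone] at h2
    rw [hpar, hpar]
    simp only [hRA, true_iff] at h2
    tauto⟩
  rcases hT.eq_bot_or_eq_top with e | e
  · refine hG ⟨⟨fun a b => ?_⟩⟩
    have key : ∀ x : G, x ≠ 1 → ¬ σ x R ∈ A := fun x hx h => hx (Subgroup.mem_bot.mp (e ▸ (h : x ∈ T)))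
    by_cases ha : a = 1
    · simp [ha]
    by_cases hb : b = 1
    · simp [hb]
    have hab : a * b = 1 := by
      by_contra h
      exact key _ h ((hpar a b).mpr (iff_of_false (key a ha) (key b hb)))
    rw [hab, mul_eq_one_comm.mp hab]
  · obtain ⟨X, hX⟩ := Finset.card_pos.mp (show 0 < B.card by omega)
    obtain ⟨g, hg⟩ := htrans X (hBsub hX)
    have hgT : g ∈ T := e ▸ Subgroup.mem_top g
    have : σ g R ∈ A := hgT
    rw [show σ g R = X from hg] at this
    exact (Finset.mem_sdiff.mp this).2 hX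

end CfsgLib.OrderSieve
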