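import Cfsg.Agent.OrderSieve.Sound
import Cfsg.Agent.Transfer.AbelianFixed
import Cfsg.Agent.SmallPerm.DegreeSix
import Cfsg.Agent.SylowToolkit.Faithful
import Cfsg.Agent.OrderSieve.FiveBipartite55

/-!
Sylow `5`-subgroups of order `25` with two of them meeting in a subgroup `R` of order five: the
conjugates of `R` fixed by `R` are counted. When the commuting graph of the conjugates is complete
bipartite the group has a subgroup of index two.
-/

set_option autoImplicit false

namespace CfsgLib.OrderSieve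

open Cfsg CfsgLib.PrimeGram
open scoped Classical

/-- All possibilities for a Sylow `5`-subgroup of order `25` in a group of order `N = 25 M`. -/
def fiveCheck (N M : ℕ) : Bool :=
  (List.range (M + 1)).all fun n =>
    !(decide (1 < n ∧ M % n = 0 ∧ n % 5 = 1) && indexOK N n) ||
      (decide (n % 25 ≠ 1) && (List.range (M + 1)).all fun h =>
        !(decide (0 < h ∧ M % h = 0) && indexOK N (M / h)) || (List.range (h + 1)).all fun s =>
          !(decide (1 < s ∧ h % s = 0 ∧ s % 5 = 1)) ||
            (decide (h % 4 = 2) &&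
              (List.range (h / 2 + 1)).all fun i => decide (i = 1 ∨ i % 5 ≠ 1 ∨ h / 2 % i ≠ 0)) ||
              ([1, 2, 4] : List ℕ).all fun t =>
                !(decide (M % (h * t) = 0) && indexOK N (M / (h * t))) ||
                  (List.range 7).all fun m =>
                    decide (M / (h * t) * s ≠ n * m ∨ (m = 1 ∧ t = 1) ∨
                      (2 ≤ m ∧ M / (h * t) + m < 2 * (1 + s * (m - 1))) ∨ (m = 2 ∧ M / (h * t) = 2 * s)))

universe u

variable {G : Type u} [Group G] [Finite G]

/-- A group of order `25 h`, `h` twice an odd number without divisor `≡ 1 (mod 5)`. -/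
theorem card_sylow_five_eq_one [Fact (Nat.Prime 5)] {h : ℕ} (hcard : Nat.card G = 25 * h)
    (h2 : h % 4 = 2) (hdiv : ∀ i, i ∣ h / 2 → i % 5 = 1 → i = 1) (h5 : ¬ 5 ∣ h) :
    Nat.card (Sylow 5 G) = 1 := by
  haveI : Fact (Nat.Prime 2) := ⟨Nat.prime_two⟩
  obtain ⟨K, hK, hKi⟩ := SmallPerm.exists_normal_index_two (G := G) (m := 25 * (h / 2))
    (by rw [hcard]; omega) (by rw [Nat.odd_iff]; omega)
  haveI := hK
  rw [← SylowToolkit.card_sylow_normal (p := 5) K (by rw [hKi]; norm_num)]
  have hKc : Nat.card K = 5 ^ 2 * (h / 2) := by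
    have := K.card_mul_index
    rw [hKi, hcard] at this
    omega
  obtain ⟨hd, hm, -⟩ := SmallSimple.card_sylow_constraints (G := K) 5 (h / 2) hKc
    (fun hd => h5 (hd.trans (Nat.div_dvd_of_dvd (Nat.dvd_of_mod_eq_zero (by omega)))))
  exact hdiv _ hd hm

variable [IsSimpleGroup G]

theorem false_of_fiveCheck (hG : ¬ IsMulCommutative G) [Fact (Nat.Prime 5)] {N M : ℕ}
    (hN : Nat.card G = N) (hM : N = 25 * M) (h5M : ¬ 5 ∣ M) (hchk : fiveCheck N M = true) : False := by
  haveI := Fintype.ofFinite G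
  haveI : Fintype (Sylow 5 G) := Fintype.ofFinite _
  have hcard : Nat.card G = 5 ^ 2 * M := hN.trans hM
  have hM0 : 0 < M := Nat.pos_of_ne_zero fun h => h5M (h ▸ dvd_zero 5)
  obtain ⟨hnM, hn5, hPall⟩ := SmallSimple.card_sylow_constraints (G := G) 5 M hcard h5M
  set n := Nat.card (Sylow 5 G) with hn
  have hdvd : 5 ∣ Nat.card G := hcard ▸ (dvd_pow_self 5 two_ne_zero).mul_right M
  have hn1 : n ≠ 1 := SmallSimple.card_sylow_ne_one hG 5 hdvd
  have hS25 : ∀ P : Sylow 5 G, Nat.card (P : Subgroup G) = 25 := fun P => by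
    rw [(hPall P).1]; norm_num
  simp only [fiveCheck, List.all_eq_true, List.mem_range, Bool.or_eq_true, Bool.and_eq_true,
    Bool.not_eq_true', Bool.and_eq_false_iff, decide_eq_false_iff_not, decide_eq_true_eq] at hchk
  rcases hchk n (Nat.lt_succ_of_le (Nat.le_of_dvd hM0 hnM)) with hc | ⟨hmod, hchk⟩
  · rcases hc with hc | hc
    · exact hc ⟨by omega, Nat.mod_eq_zero_of_dvd hnM, hn5⟩
    · rw [indexOK_card_sylow hG hN 5 hdvd] at hc; simp at hc
  obtain ⟨P⟩ := (inferInstance : Nonempty (Sylow 5 G))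
  obtain ⟨Q, hQP, hlt⟩ := SylowToolkit.exists_relIndex_lt (e := 2) P (fun hmq => hmod (by
    have h' : Nat.card (Sylow 5 G) % 25 = 1 % 25 := hmq
    rw [hn]; omega))
  set R : Subgroup G := (P : Subgroup G) ⊓ Q with hR
  have hRc : Nat.card R = 5 := by
    obtain ⟨j, hj⟩ := P.isPGroup'.card_orbit Q
    rw [SylowToolkit.card_orbit_sylow] at hj
    have hj2 : j < 2 := (Nat.pow_lt_pow_iff_right (by norm_num)).mp (hj ▸ hlt)
    have hrel : (Q : Subgroup G).relIndex P = 5 := by
      interval_cases j
      · exact absurd (by simpa using hj) (SylowToolkit.relIndex_sylow_ne_one hQP)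
      · simpa using hj
    have := Subgroup.relIndex_mul_relIndex ⊥ R (P : Subgroup G) bot_le inf_le_left
    have hrel2 : R.relIndex (P : Subgroup G) = 5 := by rw [hR, Subgroup.inf_relIndex_left, hrel]
    rw [Subgroup.relIndex_bot_left, Subgroup.relIndex_bot_left, hS25 P, hrel2] at this
    omega
  have hcomm : ∀ (S : Sylow 5 G) (a b : G), a ∈ (S : Subgroup G) → b ∈ (S : Subgroup G) →
      a * b = b * a := fun S a b ha hb => by
    letI := IsPGroup.commGroupOfCardEqPrimeSq (p := 5) ((hPall S).1)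
    exact congrArg Subtype.val (mul_comm (⟨a, ha⟩ : (S : Subgroup G)) ⟨b, hb⟩)
  set H := Subgroup.centralizer (R : Set G) with hH
  have hleH : ∀ S : Sylow 5 G, R ≤ (S : Subgroup G) → (S : Subgroup G) ≤ H := fun S hS a ha =>
    fun r hr => hcomm S r a (hS hr) ha
  have hPH := hleH P inf_le_left
  have hQH := hleH Q inf_le_right
  obtain ⟨h, hh⟩ : 25 ∣ Nat.card H := hS25 P ▸ Subgroup.card_dvd_of_le hPH
  have hRne : R ≠ ⊥ := fun e => by rw [e, Subgroup.card_bot] at hRc; norm_num at hRc
  have hHne : H ≠ ⊤ := fun e => by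
    rcases (Subgroup.center G).normal_of_characteristic.eq_bot_or_eq_top with e' | e'
    · apply hRne
      rw [eq_bot_iff, ← e']
      exact Subgroup.centralizer_eq_top_iff_subset.mp e
    · exact hG ⟨⟨fun a b => (Subgroup.mem_center_iff.1 (e' ▸ Subgroup.mem_top b) a)⟩⟩
  have hHi := H.card_mul_index
  rw [hh, hcard, show (5 : ℕ) ^ 2 = 25 from rfl, mul_assoc] at hHi
  have hhM : h * H.index = M := Nat.eq_of_mul_eq_mul_left (by norm_num) hHi
  have hh0 : 0 < h := Nat.pos_of_ne_zero fun e => by rw [e, zero_mul] at hhM; omega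
  have h5h : ¬ 5 ∣ h := fun hd => h5M (hhM ▸ hd.mul_right _)
  obtain ⟨hsd, hsm, -⟩ := SmallSimple.card_sylow_constraints (G := H) 5 h (k := 2)
    (by rw [hh]; norm_num) h5h
  have hs1 := SylowToolkit.one_lt_card_sylow_subgroup hQP hPH hQH
  set s := Nat.card (Sylow 5 H) with hs
  rcases hchk h (Nat.lt_succ_of_le (Nat.le_of_dvd hM0 (Dvd.intro _ hhM))) with hc | hchk
  · rcases hc with hc | hc
    · exact hc ⟨hh0, Nat.mod_eq_zero_of_dvd (Dvd.intro _ hhM)⟩
    · rw [← hhM, Nat.mul_div_cancel_left _ hh0, indexOK_of_ne_top hG hN hHne] at hc; simp at hc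
  rcases hchk s (Nat.lt_succ_of_le (Nat.le_of_dvd hh0 hsd)) with (hc | ⟨h2, hdiv⟩) | hchk
  · exact hc ⟨hs1, Nat.mod_eq_zero_of_dvd hsd, hsm⟩
  · have h1 := card_sylow_five_eq_one (G := H) hh h2 (fun i hi hi5 => by
      have hpos : 0 < h / 2 := by omega
      rcases hdiv i (Nat.lt_succ_of_le (Nat.le_of_dvd hpos hi)) with e | e | e
      · exact e
      · exact absurd hi5 e
      · exact absurd (Nat.mod_eq_zero_of_dvd hi) e) h5h
    omega
  -- the normalizer of `R`
  haveI : Fact (Nat.Prime 5) := inferInstance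
  haveI hcycR : IsCyclic R := isCyclic_of_prime_card hRc
  set NR := Subgroup.normalizer (R : Set G) with hNR
  set t := H.relIndex NR with ht
  have ht4 : t ∣ 4 := by
    have h1 := SylowToolkit.relIndex_centralizer_dvd_card_mulAut R
    rwa [IsCyclic.card_mulAut, hRc, show Nat.totient 5 = 4 from by decide] at h1
  have hNRc : Nat.card NR = 25 * (h * t) := by
    have h1 := relIndex_mul_centralizer (R : Subgroup G)
    rw [← hNR, ← hH, hh] at h1
    rw [ht, ← h1]; ring
  have hNRne : NR ≠ ⊤ := fun e => by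
    haveI := Subgroup.normalizer_eq_top_iff.mp e
    rcases (inferInstance : R.Normal).eq_bot_or_eq_top with e' | e'
    · exact hRne e'
    · rw [e', Subgroup.card_top, hcard] at hRc; omega
  have hNRi := NR.card_mul_index
  rw [hNRc, hcard, show (5 : ℕ) ^ 2 = 25 from rfl, mul_assoc] at hNRi
  have hK : h * t * NR.index = M := Nat.eq_of_mul_eq_mul_left (by norm_num) hNRi
  have hht0 : 0 < h * t := Nat.pos_of_ne_zero fun e => by rw [e, zero_mul] at hK; omega
  have htmem : t ∈ ([1, 2, 4] : List ℕ) := by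
    have := Nat.le_of_dvd (by norm_num) ht4
    have : t ≠ 0 := fun e => by simp [e] at hht0
    interval_cases t
    all_goals first | omega | simp
  rcases hchk t htmem with hc | hchk
  · rcases hc with hc | hc
    · exact hc (Nat.mod_eq_zero_of_dvd (Dvd.intro _ hK))
    · rw [← hK, Nat.mul_div_cancel_left _ hht0, indexOK_of_ne_top hG hN hNRne] at hc; simp at hc
  rw [← hK, Nat.mul_div_cancel_left _ hht0] at hchk
  -- conjugates of `R`
  let c : G → Subgroup G := fun g => R.map (MulAut.conj g).toMonoidHom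
  have hc1 : c 1 = R := by ext a; simp [c, Subgroup.mem_map]
  have hcmul : ∀ g k : G, c (g * k) = (c k).map (MulAut.conj g).toMonoidHom := fun g k => by
    simp only [c, Subgroup.map_map]
    congr 1
    ext a; simp [MulAut.conj_apply, mul_assoc]
  set Ω := (Finset.univ : Finset G).image c with hΩ
  have hcfix : ∀ g : G, c g = R ↔ g ∈ NR := fun g => by
    rw [hNR, Subgroup.mem_normalizer_iff]
    constructor
    · intro hg a
      constructor
      · intro ha
        have : g * a * g⁻¹ ∈ c g := ⟨a, ha, rfl⟩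
        rwa [hg] at this
      · intro ha
        have ha' : g * a * g⁻¹ ∈ c g := by rw [hg]; exact ha
        obtain ⟨b, hb, hbe⟩ := ha'
        have : b = a := (MulAut.conj g).injective hbe
        rwa [this] at hb
    · intro hg
      ext a
      constructor
      · rintro ⟨b, hb, rfl⟩; exact (hg b).mp hb
      · intro ha
        refine ⟨g⁻¹ * a * g, (hg _).mpr (by simpa [mul_assoc] using ha), ?_⟩
        simp [mul_assoc]
  have hΩK : Ω.card = NR.index := by
    have hfib : ∀ X ∈ Ω, (Finset.univ.filter fun g => c g = X).card = Nat.card NR := by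
      intro X hX
      obtain ⟨g₀, -, rfl⟩ := Finset.mem_image.mp hX
      rw [Nat.card_eq_fintype_card, Fintype.card_subtype]
      refine Finset.card_bij' (fun g _ => g₀⁻¹ * g) (fun g _ => g₀ * g) (fun g hg => ?_)
        (fun g hg => ?_) (fun g _ => by group) (fun g _ => by group)
      · simp only [Finset.mem_filter, Finset.mem_univ, true_and] at hg ⊢
        rw [← hcfix, hcmul, hg, ← hcmul, inv_mul_cancel, hc1]
      · simp only [Finset.mem_filter, Finset.mem_univ, true_and] at hg ⊢
        rw [hcmul, (hcfix g).mpr hg]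
    have h1 := Finset.card_eq_sum_card_image c (Finset.univ : Finset G)
    rw [← hΩ, Finset.sum_congr rfl hfib, Finset.sum_const, smul_eq_mul, Finset.card_univ,
      ← Nat.card_eq_fintype_card, ← NR.card_mul_index, mul_comm] at h1
    exact (Nat.eq_of_mul_eq_mul_right Nat.card_pos h1).symm
  have hΩc : ∀ X ∈ Ω, Nat.card X = 5 := fun X hX => by
    obtain ⟨g, -, rfl⟩ := Finset.mem_image.mp hX
    rw [Subgroup.card_map_of_injective (MulAut.conj g).injective, hRc]
  have hΩconj : ∀ (g : G) X, X ∈ Ω → X.map (MulAut.conj g).toMonoidHom ∈ Ω := fun g X hX => by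
    obtain ⟨k, -, rfl⟩ := Finset.mem_image.mp hX
    exact Finset.mem_image.mpr ⟨g * k, Finset.mem_univ _, hcmul g k⟩
  set μ : Sylow 5 G → ℕ := fun S => (Ω.filter fun X => X ≤ (S : Subgroup G)).card with hμ
  set ν : Subgroup G → ℕ := fun X =>
    ((Finset.univ : Finset (Sylow 5 G)).filter fun S : Sylow 5 G => X ≤ (S : Subgroup G)).card with hν
  have hback : ∀ (g : G) (X : Subgroup G),
      (X.map (MulAut.conj g).toMonoidHom).map (MulAut.conj g⁻¹).toMonoidHom = X := fun g X => by
    rw [Subgroup.map_map]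
    convert Subgroup.map_id X using 2
    ext a; simp [MulAut.conj_apply, mul_assoc]
  have hback' : ∀ (g : G) (X : Subgroup G),
      (X.map (MulAut.conj g⁻¹).toMonoidHom).map (MulAut.conj g).toMonoidHom = X := fun g X => by
    have := hback g⁻¹ X
    rwa [inv_inv] at this
  have hμc : ∀ S, μ S = μ P := by
    intro S
    obtain ⟨g, rfl⟩ := MulAction.exists_smul_eq G P S
    refine Finset.card_bij' (fun X _ => X.map (MulAut.conj g⁻¹).toMonoidHom)
      (fun X _ => X.map (MulAut.conj g).toMonoidHom) (fun X hX => ?_) (fun X hX => ?_)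
      (fun X _ => hback' g X) (fun X _ => hback g X)
    · rw [Finset.mem_filter] at hX ⊢
      refine ⟨hΩconj _ _ hX.1, ?_⟩
      have h2 := Subgroup.map_mono (f := (MulAut.conj g⁻¹).toMonoidHom) hX.2
      rw [Sylow.coe_subgroup_smul] at h2
      exact h2.trans (hback g P).le
    · rw [Finset.mem_filter] at hX ⊢
      refine ⟨hΩconj _ _ hX.1, ?_⟩
      rw [Sylow.coe_subgroup_smul]
      exact Subgroup.map_mono (f := (MulAut.conj g).toMonoidHom) hX.2
  have hνc : ∀ g : G, ν (c g) = ν R := by
    intro g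
    refine Finset.card_bij' (fun S _ => g⁻¹ • S) (fun S _ => g • S) (fun S hS => ?_) (fun S hS => ?_)
      (fun S _ => smul_inv_smul g S) (fun S _ => inv_smul_smul g S)
    · rw [Finset.mem_filter] at hS ⊢
      refine ⟨Finset.mem_univ _, ?_⟩
      rw [Sylow.coe_subgroup_smul]
      have h2 := Subgroup.map_mono (f := (MulAut.conj g⁻¹).toMonoidHom) hS.2
      exact (hback g R).ge.trans h2
    · rw [Finset.mem_filter] at hS ⊢
      refine ⟨Finset.mem_univ _, ?_⟩
      rw [Sylow.coe_subgroup_smul]
      exact Subgroup.map_mono (f := (MulAut.conj g).toMonoidHom) hS.2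
  have hνR : ν R = s := by
    simp only [hν]
    rw [hs, ← Fintype.card_subtype, ← Nat.card_eq_fintype_card]
    refine Nat.card_eq_of_bijective (fun S => S.1.subtype (hleH S.1 S.2)) ⟨fun S T h =>
      Subtype.ext (Sylow.subtype_injective h), fun S => ?_⟩
    set S' := (S : Subgroup H).map H.subtype with hS'
    have hSc : Nat.card S' = 5 ^ 2 := by
      rw [hS', Subgroup.card_map_of_injective H.subtype_injective,
        ((SmallSimple.card_sylow_constraints (G := H) 5 h (k := 2) (by rw [hh]; norm_num) h5h).2.2 S).1]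
    obtain ⟨T, hT⟩ := (IsPGroup.of_card hSc).exists_le_sylow
    have hTe : (T : Subgroup G) = S' := (Subgroup.eq_of_le_of_card_ge hT (by
      rw [(hPall T).1, hSc])).symm
    have hRT : R ≤ (T : Subgroup G) := by
      obtain ⟨k, hk⟩ := MulAction.exists_smul_eq H (P.subtype hPH) S
      intro r hr
      rw [hTe, hS', ← hk, Sylow.coe_subgroup_smul]
      refine ⟨⟨r, hPH (inf_le_left (b := (Q : Subgroup G)) hr)⟩, ?_, rfl⟩
      refine ⟨⟨r, hPH (inf_le_left (b := (Q : Subgroup G)) hr)⟩,
        inf_le_left (b := (Q : Subgroup G)) hr, Subtype.ext ?_⟩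
      show (k : G) * r * (k : G)⁻¹ = r
      rw [← (Subgroup.mem_centralizer_iff.mp k.2 r hr), mul_inv_cancel_right]
    refine ⟨⟨T, hRT⟩, Sylow.ext ?_⟩
    show (T : Subgroup G).subgroupOf H = (S : Subgroup H)
    rw [hTe, hS', Subgroup.subgroupOf, Subgroup.comap_map_eq_self_of_injective H.subtype_injective]
  set m := μ P with hm
  have hdouble : NR.index * s = n * m := by
    have h1 := Finset.sum_card_bipartiteAbove_eq_sum_card_bipartiteBelow
      (s := (Finset.univ : Finset (Sylow 5 G))) (t := Ω)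
      (r := fun (S : Sylow 5 G) (X : Subgroup G) => X ≤ (S : Subgroup G))
    have e1 : ∀ S ∈ (Finset.univ : Finset (Sylow 5 G)),
        (Ω.bipartiteAbove (fun (S : Sylow 5 G) (X : Subgroup G) => X ≤ (S : Subgroup G)) S).card = m :=
      fun S _ => hμc S
    have e2 : ∀ X ∈ Ω, ((Finset.univ : Finset (Sylow 5 G)).bipartiteBelow
        (fun (S : Sylow 5 G) (X : Subgroup G) => X ≤ (S : Subgroup G)) X).card = s := fun X hX => by
      obtain ⟨g, -, rfl⟩ := Finset.mem_image.mp hX
      exact (hνc g).trans hνR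
    rw [Finset.sum_congr rfl e1, Finset.sum_congr rfl e2, Finset.sum_const, Finset.sum_const,
      smul_eq_mul, smul_eq_mul, hΩK, Finset.card_univ, ← Nat.card_eq_fintype_card] at h1
    exact h1.symm
  have hinter : ∀ X ∈ Ω, ∀ Y ∈ Ω, X ≠ Y → X ⊓ Y = ⊥ := by
    intro X hX Y hY hne
    by_contra hb
    have hd : Nat.card (X ⊓ Y : Subgroup G) ∣ 5 := hΩc X hX ▸ Subgroup.card_dvd_of_le inf_le_left
    rcases (Nat.dvd_prime (by norm_num)).mp hd with e | e
    · exact hb (Subgroup.card_eq_one.mp e)
    · apply hne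
      rw [← Subgroup.eq_of_le_of_card_ge (inf_le_left : X ⊓ Y ≤ X) (by rw [hΩc X hX, e]),
        Subgroup.eq_of_le_of_card_ge (inf_le_right : X ⊓ Y ≤ Y) (by rw [hΩc Y hY, e])]
  have hm6 : m ≤ 6 := by
    have key : (Ω.filter fun X => X ≤ (P : Subgroup G)).card * 4 ≤
        ((Finset.univ : Finset G).filter fun g => g ∈ (P : Subgroup G) ∧ g ≠ 1).card := by
      rw [← smul_eq_mul, ← Finset.sum_const]
      calc ∑ _X ∈ Ω.filter (fun X => X ≤ (P : Subgroup G)), 4
          = ∑ X ∈ Ω.filter (fun X => X ≤ (P : Subgroup G)),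
              ((Finset.univ : Finset G).filter fun g => g ∈ X ∧ g ≠ 1).card := by
            refine Finset.sum_congr rfl fun X hX => ?_
            have hXc := hΩc X (Finset.mem_filter.mp hX).1
            rw [Nat.card_eq_fintype_card, Fintype.card_subtype] at hXc
            have he : (Finset.univ.filter fun g => g ∈ X ∧ g ≠ 1) =
                (Finset.univ.filter fun g => g ∈ X).erase 1 := by
              ext g; simp [and_comm]
            rw [he, Finset.card_erase_of_mem (by simp), hXc]
        _ = ((Ω.filter fun X => X ≤ (P : Subgroup G)).biUnion fun X =>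
              (Finset.univ : Finset G).filter fun g => g ∈ X ∧ g ≠ 1).card := by
            refine (Finset.card_biUnion ?_).symm
            intro X hX Y hY hne
            refine Finset.disjoint_filter.mpr fun g _ hg1 hg2 => ?_
            have hg : g ∈ X ⊓ Y := ⟨hg1.1, hg2.1⟩
            rw [hinter X (Finset.mem_filter.mp hX).1 Y (Finset.mem_filter.mp hY).1 hne,
              Subgroup.mem_bot] at hg
            exact hg1.2 hg
        _ ≤ _ := Finset.card_le_card fun g hg => by
            obtain ⟨X, hX, hgX⟩ := Finset.mem_biUnion.mp hg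
            rw [Finset.mem_filter] at hgX ⊢
            exact ⟨Finset.mem_univ g, (Finset.mem_filter.mp hX).2 hgX.2.1, hgX.2.2⟩
    have h24 : ((Finset.univ : Finset G).filter fun g => g ∈ (P : Subgroup G) ∧ g ≠ 1).card = 24 := by
      have hPc := hS25 P
      rw [Nat.card_eq_fintype_card, Fintype.card_subtype] at hPc
      have he : (Finset.univ.filter fun g => g ∈ (P : Subgroup G) ∧ g ≠ 1) =
          (Finset.univ.filter fun g => g ∈ (P : Subgroup G)).erase 1 := by
        ext g; simp [and_comm]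
      rw [he, Finset.card_erase_of_mem (by simp), hPc]
    rw [h24] at key
    have : m * 4 ≤ 24 := key
    omega
  have hRP : R ∈ Ω.filter fun X => X ≤ (P : Subgroup G) :=
    Finset.mem_filter.mpr ⟨hc1 ▸ Finset.mem_image.mpr ⟨1, Finset.mem_univ _, rfl⟩, inf_le_left⟩
  rcases hchk m (by omega) with h' | ⟨hm1, ht1⟩ | hlast
  · exact h' hdouble
  · -- `R` would be fixed by the normalizer of `P`
    haveI : IsMulCommutative (P : Subgroup G) := ⟨⟨fun a b => Subtype.ext (hcomm P a b a.2 b.2)⟩⟩
    have hNH : NR ≤ H := Subgroup.relIndex_eq_one.mp (ht.symm.trans ht1)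
    have hfixR : ∀ g ∈ Subgroup.normalizer ((P : Subgroup G) : Set G), g ∈ H := by
      intro g hg
      apply hNH
      rw [← hcfix]
      obtain ⟨X, hX⟩ := Finset.card_eq_one.mp (show (Ω.filter fun X => X ≤ (P : Subgroup G)).card = 1 from hm1)
      have hgP : c g ∈ Ω.filter fun X => X ≤ (P : Subgroup G) := by
        refine Finset.mem_filter.mpr ⟨Finset.mem_image.mpr ⟨g, Finset.mem_univ _, rfl⟩, ?_⟩
        rintro _ ⟨r, hr, rfl⟩
        exact (Subgroup.mem_normalizer_iff.mp hg r).mp (inf_le_left (b := (Q : Subgroup G)) hr)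
      have e1 := hRP
      rw [hX, Finset.mem_singleton] at e1 hgP
      rw [hgP, e1]
    apply hRne
    rw [eq_bot_iff]
    intro r hr
    refine Subgroup.mem_bot.mpr (Transfer.eq_one_of_fixed_by_normalizer' (fun K hK hKi => ?_) P
      (inf_le_left (b := (Q : Subgroup G)) hr)
      fun g hg => (Subgroup.mem_centralizer_iff.mp (hfixR g hg) r hr).symm)
    rcases hK.eq_bot_or_eq_top with e | e
    · rw [e, Subgroup.index_bot, hcard] at hKi; omega
    · rw [e, Subgroup.index_top] at hKi; omega
  -- two conjugates in `P` fix too many conjugates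
  have hm2 : 2 ≤ m := by omega
  obtain ⟨R₁, hR₁, hR₁ne⟩ := Finset.exists_mem_ne (show 1 < (Ω.filter fun X => X ≤ (P : Subgroup G)).card by
    exact lt_of_lt_of_le one_lt_two hm2) R
  set fix : Subgroup G → Finset (Subgroup G) := fun X => Ω.filter fun Y => Y ≤ Subgroup.centralizer (X : Set G)
  have hcount : ∀ X ∈ Ω, 1 + s * (m - 1) ≤ (fix X).card := by
    intro X hX
    obtain ⟨g, -, rfl⟩ := Finset.mem_image.mp hX
    set Sy := (Finset.univ : Finset (Sylow 5 G)).filter fun S : Sylow 5 G => c g ≤ (S : Subgroup G)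
      with hSy
    have hSyc : Sy.card = s := (hνc g).trans hνR
    have hpair : (Sy.biUnion fun S => (Ω.filter fun Y => Y ≤ (S : Subgroup G)).erase (c g)).card =
        s * (m - 1) := by
      rw [Finset.card_biUnion]
      · rw [Finset.sum_congr rfl fun S hS => show _ = m - 1 by
          rw [Finset.card_erase_of_mem (Finset.mem_filter.mpr ⟨hX, (Finset.mem_filter.mp hS).2⟩)]
          exact congrArg (· - 1) (hμc S), Finset.sum_const, smul_eq_mul, hSyc]
      · intro S hS T hT hne
        rw [Function.onFun, Finset.disjoint_left]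
        intro Y hY hY'
        rw [Finset.mem_erase, Finset.mem_filter] at hY hY'
        apply hne
        have hle : ∀ U ∈ Sy, Y ≤ (U : Subgroup G) → (U : Subgroup G) = c g ⊔ Y := by
          intro U hU hYU
          refine (Subgroup.eq_of_le_of_card_ge (sup_le (Finset.mem_filter.mp hU).2 hYU) ?_).symm
          rw [hS25 U]
          have h5 : Nat.card (c g) = 5 := hΩc _ hX
          have hd := Subgroup.card_dvd_of_le (le_sup_left : c g ≤ c g ⊔ Y)
          have hd' : Nat.card (c g ⊔ Y : Subgroup G) ∣ 25 :=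
            hS25 U ▸ Subgroup.card_dvd_of_le (sup_le (Finset.mem_filter.mp hU).2 hYU)
          rw [h5] at hd
          have key : ∀ d ∈ Nat.divisors 25, 5 ∣ d → d = 5 ∨ 25 ≤ d := by decide
          rcases key _ (Nat.mem_divisors.mpr ⟨hd', by norm_num⟩) hd with e | e
          · exfalso
            apply hY.1
            have e' := Subgroup.eq_of_le_of_card_ge (le_sup_left : c g ≤ c g ⊔ Y) (by rw [h5, e])
            exact (Subgroup.eq_of_le_of_card_ge (e' ▸ le_sup_right : Y ≤ c g)
              (by rw [h5, hΩc Y hY.2.1]))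
          · exact e
        exact Sylow.ext ((hle S hS hY.2.2).trans (hle T hT hY'.2.2).symm)
    have hnot : c g ∉ Sy.biUnion fun S => (Ω.filter fun Y => Y ≤ (S : Subgroup G)).erase (c g) := by
      simp
    rw [← hpair, add_comm, ← Finset.card_insert_of_notMem hnot]
    refine Finset.card_le_card fun Y hY => ?_
    rw [Finset.mem_filter]
    rcases Finset.mem_insert.mp hY with rfl | hY
    · refine ⟨hX, fun a ha b hb => ?_⟩
      obtain ⟨S, hS⟩ := (IsPGroup.of_card (n := 1) (by rw [hΩc _ hX, pow_one]) :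
        IsPGroup 5 (c g)).exists_le_sylow
      exact hcomm S b a (hS hb) (hS ha)
    · obtain ⟨S, hS, hYS⟩ := Finset.mem_biUnion.mp hY
      rw [Finset.mem_erase, Finset.mem_filter] at hYS
      exact ⟨hYS.2.1, fun a ha b hb => hcomm S b a ((Finset.mem_filter.mp hS).2 hb) (hYS.2.2 ha)⟩
  have hboth : fix R ∩ fix R₁ ⊆ Ω.filter fun X => X ≤ (P : Subgroup G) := by
    intro Y hY
    rw [Finset.mem_inter, Finset.mem_filter, Finset.mem_filter] at hY
    obtain ⟨⟨hYΩ, hYR⟩, -, hYR₁⟩ := hY
    obtain ⟨hR₁Ω, hR₁P⟩ := Finset.mem_filter.mp hR₁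
    refine Finset.mem_filter.mpr ⟨hYΩ, ?_⟩
    have hgen : R ⊔ R₁ = (P : Subgroup G) := by
      refine Subgroup.eq_of_le_of_card_ge (sup_le inf_le_left hR₁P) ?_
      rw [hS25 P]
      have hd := Subgroup.card_dvd_of_le (le_sup_left : R ≤ R ⊔ R₁)
      have hd' : Nat.card (R ⊔ R₁ : Subgroup G) ∣ 25 :=
        hS25 P ▸ Subgroup.card_dvd_of_le (sup_le inf_le_left hR₁P)
      rw [hRc] at hd
      have key : ∀ d ∈ Nat.divisors 25, 5 ∣ d → d = 5 ∨ 25 ≤ d := by decide
      rcases key _ (Nat.mem_divisors.mpr ⟨hd', by norm_num⟩) hd with e | e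
      · exfalso
        apply hR₁ne
        have e' := Subgroup.eq_of_le_of_card_ge (le_sup_left : R ≤ R ⊔ R₁) (by rw [hRc, e])
        exact (Subgroup.eq_of_le_of_card_ge (e' ▸ le_sup_right : R₁ ≤ R) (by rw [hRc, hΩc _ hR₁Ω]))
      · exact e
    have hYP : Y ≤ Subgroup.centralizer ((P : Subgroup G) : Set G) := by
      rw [Subgroup.le_centralizer_iff, ← hgen]
      exact sup_le (Subgroup.le_centralizer_iff.mp hYR) (Subgroup.le_centralizer_iff.mp hYR₁)
    have hYp : IsPGroup 5 Y := IsPGroup.of_card (n := 1) (by rw [hΩc Y hYΩ, pow_one])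
    have hsup := hYp.to_sup_of_normal_right' P.2
      (hYP.trans (Subgroup.centralizer_le_normalizer _))
    exact le_sup_left.trans (P.3 hsup le_sup_right).le
  rcases hlast with ⟨-, hlt'⟩ | ⟨hm2e, hK2⟩
  swap
  · have hcomm' : ∀ X ∈ Ω, X ≤ Subgroup.centralizer (X : Set G) := fun X hX a ha b hb => by
      obtain ⟨S, hS⟩ := (IsPGroup.of_card (n := 1) (by rw [hΩc X hX, pow_one]) :
        IsPGroup 5 X).exists_le_sylow
      exact hcomm S b a (hS hb) (hS ha)
    refine false_of_bipartite hG Ω (Finset.mem_filter.mp hRP).1 hΩconj (fun X hX => by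
      obtain ⟨g, -, hg⟩ := Finset.mem_image.mp hX; exact ⟨g, hg⟩) hcomm' (s := s) (by omega)
      (hΩK.trans hK2) (fun X hX => ?_) (fun X hX Y hY hne hYX => ?_)
    · have h1 := hcount X hX
      have e : 1 + s * (m - 1) = s + 1 := by rw [hm2e]; ring
      rw [e] at h1
      exact h1
    · have hXp : IsPGroup 5 X := IsPGroup.of_card (n := 1) (by rw [hΩc X hX, pow_one])
      have hYp : IsPGroup 5 Y := IsPGroup.of_card (n := 1) (by rw [hΩc Y hY, pow_one])
      obtain ⟨S, hS⟩ := (hYp.to_sup_of_normal_right' hXp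
        (hYX.trans (Subgroup.centralizer_le_normalizer _))).exists_le_sylow
      refine le_trans (Finset.card_le_card fun Z hZ => ?_) (le_of_eq ((hμc S).trans hm2e))
      rw [Finset.mem_inter, Finset.mem_filter, Finset.mem_filter] at hZ
      obtain ⟨⟨hZΩ, hZX⟩, -, hZY⟩ := hZ
      refine Finset.mem_filter.mpr ⟨hZΩ, ?_⟩
      have hgen : Y ⊔ X = (S : Subgroup G) := by
        refine Subgroup.eq_of_le_of_card_ge hS ?_
        rw [hS25 S]
        have hd := Subgroup.card_dvd_of_le (le_sup_left : Y ≤ Y ⊔ X)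
        have hd' : Nat.card (Y ⊔ X : Subgroup G) ∣ 25 := hS25 S ▸ Subgroup.card_dvd_of_le hS
        rw [hΩc Y hY] at hd
        have key : ∀ d ∈ Nat.divisors 25, 5 ∣ d → d = 5 ∨ 25 ≤ d := by decide
        rcases key _ (Nat.mem_divisors.mpr ⟨hd', by norm_num⟩) hd with e | e
        · exfalso
          apply hne
          have e' := Subgroup.eq_of_le_of_card_ge (le_sup_left : Y ≤ Y ⊔ X) (by rw [hΩc Y hY, e])
          exact Subgroup.eq_of_le_of_card_ge (e' ▸ le_sup_right : X ≤ Y) (by rw [hΩc X hX, hΩc Y hY])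
        · exact e
      have hZS : Z ≤ Subgroup.centralizer ((S : Subgroup G) : Set G) := by
        rw [Subgroup.le_centralizer_iff, ← hgen]
        exact sup_le (Subgroup.le_centralizer_iff.mp hZY) (Subgroup.le_centralizer_iff.mp hZX)
      have hZp : IsPGroup 5 Z := IsPGroup.of_card (n := 1) (by rw [hΩc Z hZΩ, pow_one])
      have hsup := hZp.to_sup_of_normal_right' S.2
        (hZS.trans (Subgroup.centralizer_le_normalizer _))
      exact le_sup_left.trans (S.3 hsup le_sup_right).le
  have h1 := hcount R (Finset.mem_filter.mp hRP).1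
  have h2 := hcount R₁ (Finset.mem_filter.mp hR₁).1
  have h3 := Finset.card_union_add_card_inter (fix R) (fix R₁)
  have h4 := Finset.card_le_card hboth
  have h5 : (fix R ∪ fix R₁).card ≤ Ω.card :=
    Finset.card_le_card (Finset.union_subset (Finset.filter_subset _ _) (Finset.filter_subset _ _))
  rw [hΩK] at h5
  have : (Ω.filter fun X => X ≤ (P : Subgroup G)).card = m := rfl
  omega

end CfsgLib.OrderSieve
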