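import Cfsg.Agent.Sieve.PrimeLocal

/-!
A computable sieve on the possible orders of simple groups: Sylow numbers, the degree equation of
the principal block with lower bounds on degrees, and relations between two primes.
-/

set_option autoImplicit false

namespace CfsgLib.OrderSieve

open CfsgLib.Sieve.PrimeLocal

/-- The primes below eighty. -/
def smallPrimes : List ℕ :=
  [2, 3, 5, 7, 11, 13, 17, 19, 23, 29, 31, 37, 41, 43, 47, 53, 59, 61, 67, 71, 73, 79]

/-- Primality for numbers below `6561`, by trial division. -/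
def primeB (p : ℕ) : Bool :=
  decide (2 ≤ p ∧ p < 6561) && smallPrimes.all fun q => decide (p < q * q ∨ p % q ≠ 0)

/-- Divide out `p` at most `fuel` times. -/
def strip (p : ℕ) : ℕ → ℕ → ℕ × ℕ
  | 0, m => (0, m)
  | fuel + 1, m =>
    if decide (2 ≤ p) && decide (0 < m) && decide (m % p = 0) then
      let r := strip p fuel (m / p)
      (r.1 + 1, r.2)
    else (0, m)

/-- The prime power parts of `N`: triples `(p, k, N / p ^ k)`. -/
def parts (N : ℕ) : List (ℕ × ℕ × ℕ) :=
  let small := (smallPrimes.filter fun p => decide (N % p = 0)).map fun p =>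
    (p, (strip p 13 N).1, (strip p 13 N).2)
  let rest := small.foldl (fun r t => r / t.1 ^ t.2.1) N
  if 1 < rest then small ++ [(rest, 1, N / rest)] else small

/-- A part is a genuine prime power part. -/
def validPart (N : ℕ) (t : ℕ × ℕ × ℕ) : Bool :=
  primeB t.1 && decide (0 < t.2.1 ∧ N = t.1 ^ t.2.1 * t.2.2 ∧ t.2.2 % t.1 ≠ 0)

/-- At most two primes. -/
def twoPrimes (N : ℕ) : Bool :=
  match parts N with
  | [a] => primeB a.1 && decide (N = a.1 ^ a.2.1)
  | [a, b] => primeB a.1 && primeB b.1 && decide (N = a.1 ^ a.2.1 * b.1 ^ b.2.1)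
  | _ => false

/-- Sylow subgroups of order four with order prime to three. -/
def fourNotThree (N : ℕ) : Bool := decide (N % 4 = 0 ∧ N % 8 ≠ 0 ∧ N % 3 ≠ 0)

/-- An index of a proper subgroup is possible. -/
def indexOK (N i : ℕ) : Bool := decide (40 ≤ i) || decide (i.factorial % (2 * N) = 0)

/-- A Sylow number is possible, with the intersection argument when `n ≢ 1 (mod p²)`. -/
def sylowOK (N : ℕ) (t : ℕ × ℕ × ℕ) (n : ℕ) : Bool :=
  indexOK N n && (decide (n % t.1 ^ 2 = 1) || (List.range (t.2.2 + 1)).any fun h =>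
    decide (t.2.2 % h = 0) && indexOK N (t.2.2 / h) && ((List.range (h / t.1 + 1)).any fun j =>
      decide (1 ≤ j ∧ h % (t.1 * j + 1) = 0)))

/-- No Sylow number is possible for a part of exponent at least two. -/
def sylowKill (N : ℕ) (t : ℕ × ℕ × ℕ) : Bool :=
  validPart N t && decide (2 ≤ t.2.1) && (List.range (t.2.2 / t.1 + 1)).all fun j =>
    !(decide (1 ≤ j ∧ t.2.2 % (t.1 * j + 1) = 0) && sylowOK N t (t.1 * j + 1))

/-- The degree equation with all degrees of `X` above `b₀`. -/
def feasibleAbove (N p e b₀ : ℕ) : Bool :=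
  ([1, -1] : List ℤ).any fun ε => (List.range 80).any fun B =>
    decide (2 ≤ B) && decide (N % B = 0) && decide (((B : ℤ) - ε * e) % p = 0) &&
      decide ((p - 1) / e * B * B + 1 ≤ N) &&
        (reach ((signedDegrees N p).filter fun q => decide (b₀ < q.2)) (e - 1)
          (N - ((p - 1) / e * B * B + 1))).contains (ε * B - 1)

/-- A Sylow number, inertial index and centraliser part for a prime of exponent one. -/
def optionOK (N p : ℕ) (o : ℕ × ℕ × ℕ) : Bool :=
  (decide (o.1 ≠ p + 1) || decide ((p - 1) % (2 * o.2.1 * o.2.2) = 0)) &&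
  (decide (10 ≤ (o.1 - 1) / p) || decide (((o.1 - 1) / p + 1).factorial % o.2.2 = 0)) &&
  ((List.range (o.2.2 + 1)).all fun q =>
    !(decide (1 < q) && decide (o.2.2 % q = 0) && decide (o.1 ≤ p * q) && primeB q)) &&
  !(decide (N % 4 = 0) && decide (N % 8 ≠ 0) && decide (o.2.1 % 4 = 0)) &&
  (decide (o.2.2 ≤ 1) || decide (p ≤ o.2.1 + 1) ||
    feasibleAbove N p o.2.1 (if o.2.2 % 2 = 0 then 2 * p else p))

/-- The surviving options. -/
def goodOptions (N p m : ℕ) : List (ℕ × ℕ × ℕ) := (options p m).filter (optionOK N p)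

/-- A prime of exponent one without options. -/
def primeKill (N : ℕ) (t : ℕ × ℕ × ℕ) : Bool :=
  validPart N t && decide (t.2.1 = 1) && (goodOptions N t.1 t.2.2).isEmpty

/-- Two choices contradict each other. -/
def clash (a b : ℕ × ℕ × ℕ × ℕ) : Bool :=
  decide (a.1 ≠ b.1) && (decide (a.2.2.2 % b.1 = 0) != decide (b.2.2.2 % a.1 = 0))

/-- The elements of prime order do not fit. -/
def tooMany (N : ℕ) (l : List (ℕ × ℕ × ℕ × ℕ)) : Bool :=
  decide (l.map Prod.fst).Nodup && decide (N < 1 + (l.map fun a => a.2.1 * (a.1 - 1)).sum)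

/-- Every choice of options for the primes leads to a contradiction. -/
def noChoice (N : ℕ) : List (ℕ × ℕ × ℕ) → List (ℕ × ℕ × ℕ × ℕ) → Bool
  | [], ch => tooMany N ch
  | t :: ts, ch => validPart N t && decide (t.2.1 = 1) &&
      (goodOptions N t.1 t.2.2).all fun o =>
        ch.any (clash (t.1, o)) || noChoice N ts ((t.1, o) :: ch)

/-- The order `N` is excluded. -/
def killed (N : ℕ) : Bool :=
  fourNotThree N || twoPrimes N || (parts N).any (fun t => sylowKill N t || primeKill N t) ||
    noChoice N ((parts N).filter fun t => decide (t.2.1 = 1) && decide (2 < t.1)) []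

/-- Orders left to separate arguments. -/
def leftover : List ℕ :=
  [4032, 4080, 4200, 4320, 4536, 4800, 5040, 5376, 5400, 5616, 5760, 5880, 6048, 6072]

end CfsgLib.OrderSieve
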