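import Cfsg.Agent.OrderSieve.Defs
import Cfsg.Agent.Blocks.PrimeGram.PrincipalData
import Cfsg.Agent.Blocks.PrimeGram.SieveTools
import Cfsg.Agent.Blocks.PrimeGram.SylowOrbits
import Cfsg.Agent.SylowToolkit.Intersection
import Cfsg.Agent.SylowToolkit.PermRep
import Cfsg.Agent.SylowToolkit.Transfer
import Cfsg.Agent.SylowToolkit.Counting
import Cfsg.Agent.SmallSimple.Basic
import Cfsg.Agent.S0992
import Cfsg.Agent.Chars.Apps.Burnside

/-!
Soundness of the sieve on orders of simple groups.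
-/

set_option autoImplicit false

namespace CfsgLib.OrderSieve

open Cfsg CfsgLib.Chars CfsgLib.PrimeGram CfsgLib.Sieve.PrimeLocal
open scoped Classical

universe u

theorem primeB_sound {p : ℕ} (h : primeB p = true) : p.Prime := by
  simp only [primeB, Bool.and_eq_true, decide_eq_true_eq, List.all_eq_true] at h
  obtain ⟨⟨h2, hlt⟩, hall⟩ := h
  by_contra hnp
  have hq := Nat.minFac_prime (show p ≠ 1 by omega)
  have hsq := Nat.minFac_sq_le_self (by omega) hnp
  have hq81 : p.minFac < 81 := by nlinarith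
  have key : ∀ q ∈ List.range 81, q.Prime → q ∈ smallPrimes := by decide +kernel
  rcases hall _ (key _ (List.mem_range.mpr hq81) hq) with h' | h'
  · rw [pow_two] at hsq; omega
  · exact h' (Nat.mod_eq_zero_of_dvd (Nat.minFac_dvd p))

theorem validPart_sound {N : ℕ} {t : ℕ × ℕ × ℕ} (h : validPart N t = true) :
    t.1.Prime ∧ 0 < t.2.1 ∧ N = t.1 ^ t.2.1 * t.2.2 ∧ ¬ t.1 ∣ t.2.2 := by
  simp only [validPart, Bool.and_eq_true, decide_eq_true_eq] at h
  exact ⟨primeB_sound h.1, h.2.1, h.2.2.1, fun hd => h.2.2.2 (Nat.mod_eq_zero_of_dvd hd)⟩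

variable {G : Type u} [Group G] [Finite G] [IsSimpleGroup G]

theorem indexOK_of_ne_top (hG : ¬ IsMulCommutative G) {N : ℕ} (hN : Nat.card G = N) {H : Subgroup G}
    (hH : H ≠ ⊤) : indexOK N H.index = true := by
  simp only [indexOK, Bool.or_eq_true, decide_eq_true_eq]
  exact Or.inr (Nat.mod_eq_zero_of_dvd (hN ▸ SmallSimple.card_dvd_factorial_index hG H hH))

theorem indexOK_card_sylow (hG : ¬ IsMulCommutative G) {N : ℕ} (hN : Nat.card G = N) (p : ℕ)
    [Fact p.Prime] (hp : p ∣ Nat.card G) : indexOK N (Nat.card (Sylow p G)) = true := by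
  simp only [indexOK, Bool.or_eq_true, decide_eq_true_eq]
  exact Or.inr (Nat.mod_eq_zero_of_dvd (hN ▸ SmallSimple.card_dvd_factorial_sylow hG p hp))

theorem exists_mul_add_one {n p : ℕ} (hmod : n % p = 1) (h1 : n ≠ 1) :
    ∃ j, 1 ≤ j ∧ n = p * j + 1 := by
  have := Nat.div_add_mod n p
  refine ⟨n / p, ?_, by omega⟩
  by_contra h
  rw [Nat.eq_zero_of_not_pos h, mul_zero] at this
  omega

theorem not_sylowKill (hG : ¬ IsMulCommutative G) {N : ℕ} (hN : Nat.card G = N) (t : ℕ × ℕ × ℕ) :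
    sylowKill N t = false := by
  rw [Bool.eq_false_iff]
  intro h
  simp only [sylowKill, Bool.and_eq_true, decide_eq_true_eq, List.all_eq_true] at h
  obtain ⟨⟨hv, hk⟩, hall⟩ := h
  obtain ⟨p, k, m⟩ := t
  obtain ⟨hp, hk0, hNe, hpm⟩ := validPart_sound hv
  simp only at hp hk0 hNe hpm hk hall
  haveI : Fact p.Prime := ⟨hp⟩
  have hcard : Nat.card G = p ^ k * m := hN.trans hNe
  obtain ⟨hnm, hmod, hPk⟩ := SmallSimple.card_sylow_constraints (G := G) p m hcard hpm
  obtain ⟨P⟩ := (inferInstance : Nonempty (Sylow p G))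
  obtain ⟨hPc, -⟩ := hPk P
  have hdvd : p ∣ Nat.card G := hcard ▸ (dvd_pow_self p (by omega)).mul_right m
  have hn1 := SmallSimple.card_sylow_ne_one hG p hdvd
  obtain ⟨j, hj1, hj⟩ := exists_mul_add_one hmod hn1
  have hm0 : 0 < m := Nat.pos_of_ne_zero fun h => hpm (h ▸ dvd_zero p)
  have hjle : j < m / p + 1 := by
    have := Nat.le_of_dvd hm0 hnm
    exact Nat.lt_succ_of_le ((Nat.le_div_iff_mul_le hp.pos).mpr (by rw [mul_comm]; omega))
  have hj' := hall j (List.mem_range.mpr hjle)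
  rw [← hj, decide_eq_true (show 1 ≤ j ∧ m % Nat.card (Sylow p G) = 0 from
    ⟨hj1, Nat.mod_eq_zero_of_dvd hnm⟩), Bool.true_and, Bool.not_eq_true'] at hj'
  apply Bool.eq_false_iff.mp hj'
  simp only [sylowOK, Bool.and_eq_true, Bool.or_eq_true, decide_eq_true_eq]
  refine ⟨indexOK_card_sylow hG hN p hdvd, ?_⟩
  by_cases hm2 : Nat.card (Sylow p G) % p ^ 2 = 1
  · exact Or.inl hm2
  refine Or.inr ?_
  have hne : Nat.card (P : Subgroup G) ≠ p := by
    rw [hPc]
    exact fun h => absurd (Nat.pow_right_injective hp.two_le (h.trans (pow_one p).symm)) (by omega)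
  obtain ⟨H, hH, hPH, hsyl⟩ := SylowToolkit.exists_subgroup_of_not_modEq hG P hne fun hmq => hm2 (by
    rw [hmq, Nat.mod_eq_of_lt (Nat.one_lt_pow two_ne_zero hp.one_lt)])
  obtain ⟨h, hh⟩ := hPH
  rw [hPc] at hh
  have hmul := H.card_mul_index
  rw [hh, hcard, mul_assoc] at hmul
  have hhm : h * H.index = m := Nat.eq_of_mul_eq_mul_left (pow_pos hp.pos k) hmul
  have hh0 : 0 < h := Nat.pos_of_ne_zero fun e => by simp [e] at hhm; omega
  have hph : ¬ p ∣ h := fun hd => hpm (hhm ▸ hd.mul_right _)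
  obtain ⟨hdH, hmodH, -⟩ := SmallSimple.card_sylow_constraints (G := H) p h hh hph
  obtain ⟨i, hi1, hi⟩ := exists_mul_add_one hmodH (by omega)
  simp only [List.any_eq_true, Bool.and_eq_true, decide_eq_true_eq]
  refine ⟨h, List.mem_range.mpr (Nat.lt_succ_of_le (Nat.le_of_dvd hm0 (Dvd.intro _ hhm))),
    ⟨Nat.mod_eq_zero_of_dvd (Dvd.intro _ hhm), ?_⟩, i, List.mem_range.mpr ?_, hi1, ?_⟩
  · rw [← hhm, Nat.mul_div_cancel_left _ hh0]; exact indexOK_of_ne_top hG hN hH
  · have := Nat.le_of_dvd hh0 hdH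
    exact Nat.lt_succ_of_le ((Nat.le_div_iff_mul_le hp.pos).mpr (by rw [mul_comm]; omega))
  · rw [← hi]; exact Nat.mod_eq_zero_of_dvd hdH

theorem not_fourNotThree (hG : ¬ IsMulCommutative G) {N : ℕ} (hN : Nat.card G = N) :
    fourNotThree N = false := by
  rw [Bool.eq_false_iff]
  intro h
  simp only [fourNotThree, decide_eq_true_eq] at h
  obtain ⟨h4, h8, h3⟩ := h
  haveI : Fact (Nat.Prime 2) := ⟨Nat.prime_two⟩
  obtain ⟨T⟩ := (inferInstance : Nonempty (Sylow 2 G))
  have he := (Cfsg.Agent.S0992.result hG (hN ▸ Nat.even_iff.mpr (by omega))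
    (fun hd => h8 (Nat.mod_eq_zero_of_dvd (hN ▸ hd))) T).2
  have hd : 3 ∣ Nat.card G := by
    have h := Dvd.intro _ (relIndex_mul_centralizer (T : Subgroup G))
    rw [he] at h
    exact h.trans (Subgroup.card_subgroup_dvd_card _)
  exact h3 (Nat.mod_eq_zero_of_dvd (hN ▸ hd))

theorem not_twoPrimes (hG : ¬ IsMulCommutative G) {N : ℕ} (hN : Nat.card G = N) :
    twoPrimes N = false := by
  rw [Bool.eq_false_iff]
  intro h
  have hsolv : ¬ Group.IsSolvable G := fun hs =>
    hG ⟨⟨fun a b => (IsSimpleGroup.comm_iff_isSolvable).mpr hs a b⟩⟩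
  unfold twoPrimes at h
  split at h
  · rename_i a _
    simp only [Bool.and_eq_true, decide_eq_true_eq] at h
    exact hsolv (Chars.Apps.isSolvable_of_card_eq_pow_mul_pow G (primeB_sound h.1) (primeB_sound h.1)
      (a := a.2.1) (b := 0) (by rw [pow_zero, mul_one, hN]; exact h.2))
  · simp only [Bool.and_eq_true, decide_eq_true_eq] at h
    exact hsolv (Chars.Apps.isSolvable_of_card_eq_pow_mul_pow G (primeB_sound h.1.1)
      (primeB_sound h.1.2) (hN.trans h.2))
  · exact absurd h Bool.false_ne_true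

/-- An element whose order is a multiple of `|N(P) : C(P)|`. -/
theorem exists_dvd_orderOf {p : ℕ} [hp : Fact p.Prime] (P : Sylow p G)
    (hP : Nat.card (P : Subgroup G) = p) {e : ℕ}
    (he : (Subgroup.centralizer ((P : Subgroup G) : Set G)).relIndex
      (Subgroup.normalizer ((P : Subgroup G) : Set G)) = e) : ∃ g : G, e ∣ orderOf g := by
  haveI := Fintype.ofFinite G
  obtain ⟨x, hx, hz, hidx⟩ := Blocks.OrderP.exists_generator_sylow P hP
  obtain ⟨hed, he0, hfus, -⟩ := Blocks.OrderP.exists_local_data hx hidx (e := e) (by rw [hz]; exact he)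
  obtain ⟨γ, hγ⟩ := IsCyclic.exists_generator (α := (ZMod p)ˣ)
  have hoγ : orderOf γ = p - 1 := by
    rw [orderOf_eq_card_of_forall_mem_zpowers hγ, Nat.card_eq_fintype_card, ZMod.card_units]
  obtain ⟨d, hd⟩ := hed
  have hd0 : d ≠ 0 := fun h => by have := hp.out.two_le; rw [h, mul_zero] at hd; omega
  set η := γ ^ d with hη
  have hoη : orderOf η = e := by
    rw [hη, orderOf_pow' γ hd0, hoγ, hd, Nat.gcd_mul_left_left,
      Nat.mul_div_cancel _ (Nat.pos_of_ne_zero hd0)]
  have hηe : ((η : ZMod p) / 1) ^ e = 1 := by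
    rw [div_one, ← Units.val_pow_eq_pow_val, ← hoη, pow_orderOf_eq_one, Units.val_one]
  obtain ⟨g, hg⟩ := isConj_iff.mp ((hfus 1 (η : ZMod p) one_ne_zero η.ne_zero).mpr hηe)
  replace hg : g * x * g⁻¹ = pw p x (η : ZMod p) := by
    rw [show Blocks.OrderP.upow x (1 : ZMod p) = pw p x 1 from rfl, pw_one] at hg
    exact hg
  refine ⟨g, ?_⟩
  have hiter : ∀ n : ℕ, g ^ n * x * (g ^ n)⁻¹ = pw p x ((η : ZMod p) ^ n) := by
    intro n
    induction n with
    | zero => simp [pw_one]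
    | succ n ih =>
      obtain ⟨hm', he'⟩ := hexp_eq (g := g) (h := (η : ZMod p)) hx hg
      rw [pow_succ', show g * g ^ n * x * (g * g ^ n)⁻¹ = g * (g ^ n * x * (g ^ n)⁻¹) * g⁻¹ by group,
        ih, conj_pw hx hm', he', ← pow_succ']
  have h1 := hiter (orderOf g)
  rw [pow_orderOf_eq_one, one_mul, inv_one, mul_one] at h1
  have h2 := pw_injective hx ((pw_one (p := p) (x := x)).trans h1)
  rw [← hoη]
  exact orderOf_dvd_of_pow_eq_one (Units.ext (by rw [Units.val_pow_eq_pow_val, ← h2, Units.val_one]))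

/-- With Sylow `2`-subgroups of order four, four does not divide `|N(P) : C(P)|`. -/
theorem not_four_dvd_index (hG : ¬ IsMulCommutative G) {p : ℕ} [hp : Fact p.Prime] (P : Sylow p G)
    (hP : Nat.card (P : Subgroup G) = p) {e : ℕ}
    (he : (Subgroup.centralizer ((P : Subgroup G) : Set G)).relIndex
      (Subgroup.normalizer ((P : Subgroup G) : Set G)) = e)
    (h4 : 4 ∣ Nat.card G) (h8 : ¬ 8 ∣ Nat.card G) : ¬ 4 ∣ e := by
  intro hd
  haveI : Fact (Nat.Prime 2) := ⟨Nat.prime_two⟩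
  obtain ⟨g, hg⟩ := exists_dvd_orderOf P hP he
  have hog : orderOf g ≠ 0 := (orderOf_pos g).ne'
  obtain ⟨r, hr⟩ := hd.trans hg
  have hy : orderOf (g ^ r) = 4 := by
    rw [orderOf_pow' g (fun h => hog (by rw [hr, h, mul_zero])), hr, Nat.gcd_mul_left_left,
      Nat.mul_div_cancel _ (Nat.pos_of_ne_zero fun h => hog (by rw [hr, h, mul_zero]))]
  obtain ⟨S, hS⟩ := (IsPGroup.of_card (n := 2) (by rw [Nat.card_zpowers, hy]; norm_num) :
    IsPGroup 2 (Subgroup.zpowers (g ^ r))).exists_le_sylow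
  obtain ⟨m, hm⟩ := h4
  have hS4 : Nat.card (S : Subgroup G) = 4 := by
    have h := ((SmallSimple.card_sylow_constraints (G := G) 2 m (k := 2) (by rw [hm]; norm_num)
      (fun h2 => h8 (by rw [hm]; exact Nat.mul_dvd_mul_left 4 h2))).2.2 S).1
    rw [h]; norm_num
  refine SmallSimple.sylow_minFac_not_isCyclic hG
    ((Nat.minFac_eq_two_iff _).mpr ((dvd_mul_right 2 (2 * m)).trans (by rw [hm]; ring_nf; rfl))) S ?_
  refine isCyclic_of_orderOf_eq_card (⟨g ^ r, hS (Subgroup.mem_zpowers _)⟩ : (S : Subgroup G)) ?_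
  rw [Subgroup.orderOf_mk, hy, hS4]

/-- The degree equation with lower bounds from an element centralising `P`. -/
theorem feasibleAbove_of_centralized (hG : ¬ IsMulCommutative G) {N : ℕ} (hN : Nat.card G = N)
    (hlt : N < 6400) {p : ℕ} [hp : Fact p.Prime] (P : Sylow p G)
    (hP : Nat.card (P : Subgroup G) = p) {e c : ℕ} (hep : e + 1 < p)
    (he : (Subgroup.centralizer ((P : Subgroup G) : Set G)).relIndex
      (Subgroup.normalizer ((P : Subgroup G) : Set G)) = e)
    (hc : Nat.card (Subgroup.centralizer ((P : Subgroup G) : Set G)) = p * c) (hc1 : 1 < c)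
    (hpc : ¬ p ∣ c) :
    feasibleAbove N p e (if c % 2 = 0 then 2 * p else p) = true := by
  haveI := Fintype.ofFinite G
  obtain ⟨he2, x, X, Y, εX, ε, hz, D⟩ := exists_blockData hG P hP e hep he
  have hp2 : p ≠ 2 := by omega
  have hY0 : 0 < Y.card := by
    rw [D.cardY]; exact Nat.div_pos (by omega) (by omega)
  obtain ⟨θ₀, hθ₀⟩ := Finset.card_pos.mp hY0
  set B := charDegree (θ₀ : G → ℂ) with hB
  have hθ1 : θ₀ ≠ oneChar G := fun h => Finset.disjoint_left.mp D.disj D.oneX (h ▸ hθ₀)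
  have two_le : ∀ χ : IrrCharacter G, χ ≠ oneChar G → 2 ≤ charDegree (χ : G → ℂ) := fun χ hχ => by
    have h1 := charDegree_pos χ
    by_contra h
    exact hχ (linear_eq_one hG χ (by omega))
  have hone : charDegree (oneChar G : G → ℂ) = 1 := charDegree_linChar 1
  have hBc : ∀ θ ∈ Y, charDegree (θ : G → ℂ) = B := fun θ hθ => by
    have h1 := D.degree_eq hθ
    have h2 := D.degree_eq hθ₀
    rcases D.sign with h | h <;> rw [h] at h1 h2 <;> omega
  have hbound : ∀ χ ∈ X.erase (oneChar G),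
      (if c % 2 = 0 then 2 * p else p) < charDegree (χ : G → ℂ) := by
    intro χ hχ
    obtain ⟨hne, hχX⟩ := Finset.mem_erase.mp hχ
    split_ifs with hc2
    · haveI : Fact (Nat.Prime 2) := ⟨Nat.prime_two⟩
      obtain ⟨u, hu, hu1, hux, -⟩ := exists_commuting_element (p := p) hz 2 hp2.symm
        (by rw [hc]; exact dvd_mul_of_dvd_right (Nat.dvd_of_mod_eq_zero hc2) p)
      obtain ⟨b, hb0, hbd, hblt, -⟩ := D.two_mul_lt_degree hG hp2 hχX hne hu1
        (by rw [← pow_two, ← hu, pow_orderOf_eq_one]) hux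
      have := Nat.le_of_dvd hb0 hbd
      omega
    · haveI : Fact c.minFac.Prime := ⟨Nat.minFac_prime (by omega)⟩
      obtain ⟨u, -, hu1, hux, hup⟩ := exists_commuting_element (p := p) hz c.minFac
        (fun h => hpc (h ▸ Nat.minFac_dvd c))
        (by rw [hc]; exact dvd_mul_of_dvd_right (Nat.minFac_dvd c) p)
      by_contra hle
      have hne' : charDegree (χ : G → ℂ) ≠ p := fun hd => by
        have h := Int.emod_eq_emod_iff_emod_sub_eq_zero.mp (D.congrX χ hχX)
        have h' := Int.le_of_dvd (by norm_num) (b := 1) (a := (p : ℤ)) (by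
          have hd' := Int.dvd_of_emod_eq_zero h
          rw [hd] at hd'
          have := (dvd_sub (dvd_refl (p : ℤ)) hd')
          rw [sub_sub_cancel] at this
          rcases D.signX χ hχX with e' | e' <;> rw [e'] at this
          · exact this
          · exact dvd_neg.mp this)
        have := hp.out.two_le
        omega
      exact hu1 (D.eq_one_of_small hχX hne (by omega) hux hup)
  set l := (X.erase (oneChar G)).toList.map fun χ => (εX χ, charDegree (χ : G → ℂ)) with hl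
  have hllen : l.length = e - 1 := by
    rw [hl, List.length_map, Finset.length_toList, Finset.card_erase_of_mem D.oneX, D.cardX]
  have heq : ε * (B : ℤ) = 1 + (l.map fun q => q.1 * (q.2 : ℤ)).sum := by
    rw [hB, D.degree_eq hθ₀, ← Finset.add_sum_erase _ _ D.oneX, D.signOne, hl, List.map_map,
      Finset.sum_map_toList, hone]
    simp [Function.comp_def]
  have hsq : (p - 1) / e * B * B + 1 + (l.map fun q => q.2 ^ 2).sum ≤ N := by
    have hsub : ∑ χ ∈ X ∪ Y, charDegree (χ : G → ℂ) ^ 2 ≤ Nat.card G :=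
      (sum_charDegree_sq (G := G)) ▸ Finset.sum_le_sum_of_subset (Finset.subset_univ _)
    rw [Finset.sum_union D.disj, Finset.sum_congr (s₁ := Y) rfl fun θ hθ =>
        show charDegree (θ : G → ℂ) ^ 2 = B ^ 2 by rw [hBc θ hθ],
      Finset.sum_const, smul_eq_mul, D.cardY, ← Finset.add_sum_erase _ _ D.oneX, hone, hN,
      pow_two B, ← mul_assoc] at hsub
    rw [hl, List.map_map, Function.comp_def, Finset.sum_map_toList]
    simp only at hsub ⊢
    omega
  have ht : 1 ≤ (p - 1) / e := (Nat.one_le_div_iff (by omega)).mpr (by omega)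
  have hBB : B * B ≤ (p - 1) / e * B * B := by
    rw [mul_assoc]; exact Nat.le_mul_of_pos_left _ ht
  have hB80 : B < 80 := by
    by_contra h
    have := Nat.mul_le_mul (not_lt.mp h) (not_lt.mp h)
    omega
  simp only [feasibleAbove, List.any_eq_true, Bool.and_eq_true, decide_eq_true_eq,
    List.contains_iff_mem]
  refine ⟨ε, by simpa using D.sign, B, List.mem_range.mpr hB80, ⟨⟨⟨two_le _ hθ1, ?_⟩, ?_⟩, ?_⟩, ?_⟩
  · exact Nat.mod_eq_zero_of_dvd (hN ▸ charDegree_dvd_card θ₀)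
  · exact Int.emod_eq_emod_iff_emod_sub_eq_zero.mp (D.congrY θ₀ hθ₀)
  · omega
  · rw [show ε * (B : ℤ) - 1 = (l.map fun q => q.1 * (q.2 : ℤ)).sum by omega, ← hllen]
    refine sum_mem_reach _ l _ (fun q hq => ?_) (by omega)
    obtain ⟨χ, hχ, rfl⟩ := List.mem_map.mp hq
    rw [Finset.mem_toList] at hχ
    have hb := hbound χ hχ
    obtain ⟨hne, hχX⟩ := Finset.mem_erase.mp hχ
    have hχ300 : charDegree (χ : G → ℂ) < 300 := by
      have h1 := charDegree_sq_le χ
      rw [hN] at h1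
      nlinarith
    simp only [signedDegrees, List.mem_filter, List.mem_flatMap, List.mem_filterMap, List.mem_range,
      Bool.and_eq_true, decide_eq_true_eq]
    refine ⟨⟨charDegree (χ : G → ℂ), ⟨hχ300, two_le χ hne,
      Nat.mod_eq_zero_of_dvd (hN ▸ charDegree_dvd_card χ)⟩, εX χ,
      by simpa using D.signX χ hχX, ?_⟩, hb⟩
    rw [if_pos (Int.emod_eq_emod_iff_emod_sub_eq_zero.mp (D.congrX χ hχX))]

theorem exists_goodOption (hG : ¬ IsMulCommutative G) {N : ℕ} (hN : Nat.card G = N) (hlt : N < 6400)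
    {t : ℕ × ℕ × ℕ} (hv : validPart N t = true) (h1 : t.2.1 = 1) :
    ∃ o ∈ goodOptions N t.1 t.2.2, HasLocal G t.1 o.1 o.2.2 := by
  obtain ⟨p, k, m⟩ := t
  obtain ⟨hp, -, hNe, hpm⟩ := validPart_sound hv
  simp only at hp hNe hpm h1 ⊢
  subst h1
  rw [pow_one] at hNe
  haveI : Fact p.Prime := ⟨hp⟩
  have hcard : Nat.card G = p * m := hN.trans hNe
  obtain ⟨o, ho, hloc⟩ := exists_option hG (by omega) p m hcard hpm
  refine ⟨o, List.mem_filter.mpr ⟨ho, ?_⟩, hloc⟩
  simp only [options, List.mem_flatMap, List.mem_filter, List.mem_range, Bool.and_eq_true,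
    decide_eq_true_eq, List.mem_filterMap] at ho
  obtain ⟨j, ⟨hj, hjok⟩, e, hep, hif⟩ := ho
  split_ifs at hif with hcond
  obtain ⟨rfl⟩ := hif
  obtain ⟨he2, hep1, hke, -⟩ := hcond
  obtain ⟨hnS, hR⟩ := hloc
  simp only at hnS hR
  obtain ⟨P⟩ := (inferInstance : Nonempty (Sylow p G))
  obtain ⟨hP, hC⟩ := hR P
  set n := p * j + 1 with hn
  set c := m / n / e with hcdef
  have hnm : n ∣ m := Nat.dvd_of_mod_eq_zero hjok.1.2
  obtain ⟨-, -, hPn⟩ := SmallSimple.card_sylow_constraints (G := G) p m (k := 1)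
    (by rw [pow_one, hcard]) hpm
  obtain ⟨-, hN'⟩ := hPn P
  rw [hnS, pow_one] at hN'
  have hec : e * c = m / n := Nat.mul_div_cancel' (Nat.dvd_of_mod_eq_zero hke)
  have hnorm : Nat.card (Subgroup.normalizer ((P : Subgroup G) : Set G)) = p * (e * c) := by
    rw [hec]
    refine Nat.eq_of_mul_eq_mul_left (Nat.succ_pos (p * j)) ?_
    rw [hN', mul_left_comm, Nat.mul_div_cancel' hnm]
  have hm0 : 0 < m := Nat.pos_of_ne_zero fun h => hpm (h ▸ dvd_zero p)
  have hc0 : 0 < c := by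
    by_contra h
    rw [Nat.eq_zero_of_not_pos h, mul_zero, mul_zero] at hnorm
    exact absurd hnorm Nat.card_pos.ne'
  have he : (Subgroup.centralizer ((P : Subgroup G) : Set G)).relIndex
      (Subgroup.normalizer ((P : Subgroup G) : Set G)) = e := by
    have h := relIndex_mul_centralizer (P : Subgroup G)
    rw [hC, hnorm] at h
    refine Nat.eq_of_mul_eq_mul_right (Nat.mul_pos hp.pos hc0) ?_
    rw [h, mul_left_comm]
  have hcm : c ∣ m := (Dvd.intro_left e hec).trans (Nat.div_dvd_of_dvd hnm)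
  have hpc : ¬ p ∣ c := fun h => hpm (h.trans hcm)
  simp only [optionOK, Bool.and_eq_true, Bool.or_eq_true, decide_eq_true_eq, List.all_eq_true,
    Bool.not_eq_true']
  refine ⟨⟨⟨⟨?_, ?_⟩, ?_⟩, ?_⟩, ?_⟩
  · by_cases hn1 : n = p + 1
    · refine Or.inr (Nat.mod_eq_zero_of_dvd ?_)
      have hd := SmallSimple.two_mul_card_normalizer_dvd hG p (by omega) P hP
        (Subgroup.normalizer ((P : Subgroup G) : Set G))
        (Or.inr ((Sylow.card_eq_index_normalizer P).symm.trans (hnS.trans hn1)))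
      rw [hnorm, show 2 * (p * (e * c)) = p * (2 * e * c) by ring] at hd
      exact Nat.dvd_of_mul_dvd_mul_left hp.pos hd
    · exact Or.inl hn1
  · refine Or.inr (Nat.mod_eq_zero_of_dvd ?_)
    rw [show (n - 1) / p = j by rw [hn, Nat.add_sub_cancel, Nat.mul_div_cancel_left _ hp.pos]]
    exact dvd_factorial_orbits hG P hP hC (by rw [hnS, hn, add_comm])
  · intro q _
    rw [Bool.eq_false_iff]
    intro hq
    simp only [Bool.and_eq_true, decide_eq_true_eq] at hq
    obtain ⟨⟨⟨hq1, hqc⟩, hnq⟩, hqp⟩ := hq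
    haveI : Fact q.Prime := ⟨primeB_sound hqp⟩
    refine not_dvd_card_centralizer hG P hP q (fun h => hpc ?_) (hnS ▸ hnq) ?_
    · rw [← h]; exact Nat.dvd_of_mod_eq_zero hqc
    · rw [hC]; exact dvd_mul_of_dvd_right (Nat.dvd_of_mod_eq_zero hqc) p
  · rw [Bool.eq_false_iff]
    intro hq
    simp only [Bool.and_eq_true, decide_eq_true_eq] at hq
    obtain ⟨⟨h4, h8⟩, he4⟩ := hq
    exact not_four_dvd_index hG P hP he (hN ▸ Nat.dvd_of_mod_eq_zero h4)
      (fun h => h8 (Nat.mod_eq_zero_of_dvd (hN ▸ h))) (Nat.dvd_of_mod_eq_zero he4)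
  · by_cases hc1 : c ≤ 1
    · exact Or.inl (Or.inl hc1)
    by_cases hpe : p ≤ e + 1
    · exact Or.inl (Or.inr hpe)
    exact Or.inr (feasibleAbove_of_centralized hG hN hlt P hP (by omega) he hC (by omega) hpc)

theorem not_primeKill (hG : ¬ IsMulCommutative G) {N : ℕ} (hN : Nat.card G = N) (hlt : N < 6400)
    (t : ℕ × ℕ × ℕ) : primeKill N t = false := by
  rw [Bool.eq_false_iff]
  intro h
  simp only [primeKill, Bool.and_eq_true, decide_eq_true_eq, List.isEmpty_iff] at h
  obtain ⟨o, ho, -⟩ := exists_goodOption hG hN hlt h.1.1 h.1.2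
  rw [h.2] at ho
  simp at ho

/-- A choice made during the search. -/
def Chosen (G : Type u) [Group G] (N : ℕ) (a : ℕ × ℕ × ℕ × ℕ) : Prop :=
  a.1.Prime ∧ (∃ m, N = a.1 * m ∧ ¬ a.1 ∣ m) ∧ HasLocal G a.1 a.2.1 a.2.2.2

omit [IsSimpleGroup G] in
theorem not_clash {N : ℕ} {a b : ℕ × ℕ × ℕ × ℕ} (ha : Chosen G N a) (hb : Chosen G N b) :
    clash a b = false := by
  rw [Bool.eq_false_iff]
  intro h
  simp only [clash, Bool.and_eq_true, decide_eq_true_eq, bne_iff_ne, ne_eq] at h
  obtain ⟨hne, h⟩ := h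
  haveI : Fact a.1.Prime := ⟨ha.1⟩
  haveI : Fact b.1.Prime := ⟨hb.1⟩
  apply h
  rw [decide_eq_decide]
  exact ⟨fun h' => Nat.mod_eq_zero_of_dvd (dvd_of_dvd ha.2.2 hb.2.2 hne (Nat.dvd_of_mod_eq_zero h')),
    fun h' => Nat.mod_eq_zero_of_dvd
      (dvd_of_dvd hb.2.2 ha.2.2 (Ne.symm hne) (Nat.dvd_of_mod_eq_zero h'))⟩

omit [IsSimpleGroup G] in
theorem not_tooMany {N : ℕ} (hN : Nat.card G = N) {ch : List (ℕ × ℕ × ℕ × ℕ)}
    (hch : ∀ a ∈ ch, Chosen G N a) : tooMany N ch = false := by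
  rw [Bool.eq_false_iff]
  intro h
  simp only [tooMany, Bool.and_eq_true, decide_eq_true_eq] at h
  obtain ⟨hnd, hlt⟩ := h
  have hsum : ((ch.map fun a => a.2.1 * (a.1 - 1))).sum =
      ∑ n ∈ (ch.map Prod.fst).toFinset, Nat.card {x : G // orderOf x = n} := by
    rw [List.sum_toFinset _ hnd, List.map_map]
    congr 1
    refine List.map_congr_left fun a ha => ?_
    obtain ⟨hp, ⟨m, hm, hpm⟩, hloc⟩ := hch a ha
    haveI : Fact a.1.Prime := ⟨hp⟩
    exact (card_orderOf_eq hloc (hN.trans hm) hpm).symm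
  have h1 : (1 : ℕ) ∉ (ch.map Prod.fst).toFinset := by
    intro h1
    rw [List.mem_toFinset, List.mem_map] at h1
    obtain ⟨a, ha, ha1⟩ := h1
    exact (hch a ha).1.ne_one ha1
  have := SylowToolkit.one_add_sum_card_orderOf_le (G := G) _ h1
  omega

theorem not_noChoice (hG : ¬ IsMulCommutative G) {N : ℕ} (hN : Nat.card G = N) (hlt : N < 6400) :
    ∀ (ts : List (ℕ × ℕ × ℕ)) (ch : List (ℕ × ℕ × ℕ × ℕ)), (∀ a ∈ ch, Chosen G N a) →
      noChoice N ts ch = false
  | [], ch, hch => not_tooMany hN hch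
  | t :: ts, ch, hch => by
    rw [Bool.eq_false_iff]
    intro h
    simp only [noChoice, Bool.and_eq_true, decide_eq_true_eq, List.all_eq_true] at h
    obtain ⟨⟨hv, h1⟩, hall⟩ := h
    obtain ⟨o, ho, hloc⟩ := exists_goodOption hG hN hlt hv h1
    have hnew : Chosen G N (t.1, o) := by
      obtain ⟨hp, -, hNe, hpm⟩ := validPart_sound hv
      rw [h1, pow_one] at hNe
      exact ⟨hp, ⟨_, hNe, hpm⟩, hloc⟩
    have h' := hall o ho
    rw [Bool.or_eq_true, List.any_eq_true] at h'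
    rcases h' with ⟨b, hb, hcl⟩ | h'
    · rw [not_clash hnew (hch b hb)] at hcl
      exact Bool.false_ne_true hcl
    · rw [not_noChoice hG hN hlt ts _ (fun a ha => by
        rcases List.mem_cons.mp ha with rfl | ha
        · exact hnew
        · exact hch a ha)] at h'
      exact Bool.false_ne_true h'

/-- The sieve is sound. -/
theorem not_killed (hG : ¬ IsMulCommutative G) {N : ℕ} (hN : Nat.card G = N) (hlt : N < 6400) :
    killed N = false := by
  simp only [killed, Bool.or_eq_false_iff, List.any_eq_false, Bool.or_eq_true, not_or,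
    Bool.not_eq_true]
  exact ⟨⟨⟨not_fourNotThree hG hN, not_twoPrimes hG hN⟩, fun t _ =>
    ⟨not_sylowKill hG hN t, not_primeKill hG hN hlt t⟩⟩, not_noChoice hG hN hlt _ [] (by simp)⟩

end CfsgLib.OrderSieve
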